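import Groth.Prelude.Def_LefPen
import Mathlib
import Groth.Agent.VarDim.Algebra

/-!
Dimension of the quotient by a homogeneous ideal is at most `e` iff `e` linear forms cut it down
to the irrelevant ideal; the forms may be taken with coefficients in an infinite subfield.
-/

open MvPolynomial

universe u

namespace Groth.Agent.GenPt

variable {K : Type u} [Field K] {n : ℕ}

/-- The irrelevant ideal. -/
noncomputable def irr (K : Type u) [Field K] (n : ℕ) : Ideal (MvPolynomial (Fin (n + 1)) K) :=
  RingHom.ker (constantCoeff : MvPolynomial (Fin (n + 1)) K →+* K)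

instance irr_isMaximal : (irr K n).IsMaximal :=
  RingHom.ker_isMaximal_of_surjective constantCoeff fun a => ⟨C a, by simp⟩

theorem X_mem_irr (i : Fin (n + 1)) : (X i : MvPolynomial (Fin (n + 1)) K) ∈ irr K n := by
  simp [irr]

theorem irr_le_of_X_mem {P : Ideal (MvPolynomial (Fin (n + 1)) K)}
    (h : ∀ i, (X i : MvPolynomial (Fin (n + 1)) K) ∈ P) : irr K n ≤ P := by
  intro f hf
  have h2 : ∀ g : MvPolynomial (Fin (n + 1)) K, g - C (constantCoeff g) ∈ P := by
    intro g
    induction g using MvPolynomial.induction_on with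
    | C a => simp
    | add p q hp hq =>
      have := P.add_mem hp hq
      simp only [map_add]
      convert this using 1
      ring
    | mul_X p j hp =>
      simp only [map_mul, constantCoeff_X, mul_zero, map_zero, sub_zero]
      exact P.mul_mem_left _ (h j)
  have := h2 f
  rw [show constantCoeff f = 0 from hf] at this
  simpa using this

theorem eq_irr_of_X_mem {P : Ideal (MvPolynomial (Fin (n + 1)) K)} (hP : P ≠ ⊤)
    (h : ∀ i, (X i : MvPolynomial (Fin (n + 1)) K) ∈ P) : P = irr K n :=
  ((irr_isMaximal (K := K) (n := n)).eq_of_le hP (irr_le_of_X_mem h)).symm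

/-- Homogeneous ideals, proper, are contained in the irrelevant ideal. -/
theorem le_irr {P : Ideal (MvPolynomial (Fin (n + 1)) K)}
    (hP : P.IsHomogeneous (CohB1.polyGrading n K)) (hne : P ≠ ⊤) : P ≤ irr K n := by
  intro f hf
  by_contra hc
  have hmem := hP 0 hf
  have h0 : (DirectSum.decompose (CohB1.polyGrading n K) f 0 : MvPolynomial (Fin (n + 1)) K) =
      C (constantCoeff f) := by
    rw [show (DirectSum.decompose (CohB1.polyGrading n K) f 0 : MvPolynomial (Fin (n + 1)) K) =
      homogeneousComponent 0 f from decomposition.decompose'_apply _ _]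
    rw [homogeneousComponent_zero, constantCoeff_eq]
  rw [h0] at hmem
  exact hne (P.eq_top_of_isUnit_mem hmem ((isUnit_iff_ne_zero.2 hc).map C))

theorem minimal_isHomogeneous {I P : Ideal (MvPolynomial (Fin (n + 1)) K)}
    (hI : I.IsHomogeneous (CohB1.polyGrading n K)) (hP : P ∈ I.minimalPrimes) :
    P.IsHomogeneous (CohB1.polyGrading n K) := by
  have h1 : (P.homogeneousCore (CohB1.polyGrading n K)).toIdeal.IsPrime := hP.1.1.homogeneousCore
  have h2 : I ≤ (P.homogeneousCore (CohB1.polyGrading n K)).toIdeal :=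
    hI.toIdeal_homogeneousCore_eq_self.symm.le.trans (Ideal.homogeneousCore_mono _ hP.1.2)
  have h3 := hP.2 ⟨h1, h2⟩ (Ideal.toIdeal_homogeneousCore_le _ P)
  rw [le_antisymm h3 (Ideal.toIdeal_homogeneousCore_le _ P)]
  exact (P.homogeneousCore _).isHomogeneous

variable {k : Type u} [Field k] [Algebra k K]

variable (K) in
/-- The linear form with coefficients `a`. -/
noncomputable def lin (a : Fin (n + 1) → k) : MvPolynomial (Fin (n + 1)) K :=
  ∑ i, C (algebraMap k K (a i)) * X i

theorem lin_mem_irr (a : Fin (n + 1) → k) : lin K a ∈ irr K n :=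
  Ideal.sum_mem _ fun i _ => Ideal.mul_mem_left _ _ (X_mem_irr i)

theorem lin_isHomogeneous (a : Fin (n + 1) → k) : (lin K a).IsHomogeneous 1 :=
  IsHomogeneous.sum _ _ _ fun i _ => by
    simpa using (isHomogeneous_C _ _).mul (isHomogeneous_X K i)

theorem isHomogeneous_span_lin (s : Set (Fin (n + 1) → k)) :
    (Ideal.span (lin K '' s)).IsHomogeneous (CohB1.polyGrading n K) := by
  refine Ideal.homogeneous_span _ _ ?_
  rintro _ ⟨a, -, rfl⟩
  exact ⟨1, (mem_homogeneousSubmodule _ _).2 (lin_isHomogeneous a)⟩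

theorem lin_add (a b : Fin (n + 1) → k) : lin K (a + b) = lin K a + lin K b := by
  simp [lin, add_mul, Finset.sum_add_distrib]

theorem lin_smul (c : k) (a : Fin (n + 1) → k) :
    lin K (c • a) = C (algebraMap k K c) * lin K a := by
  simp [lin, Finset.mul_sum, mul_assoc]

theorem exists_avoid [Infinite k] (S : Finset (Ideal (MvPolynomial (Fin (n + 1)) K)))
    (hS : ∀ P ∈ S, ∃ i, (X i : MvPolynomial (Fin (n + 1)) K) ∉ P) :
    ∃ a : Fin (n + 1) → k, ∀ P ∈ S, lin K a ∉ P := by
  classical
  let sub : Ideal (MvPolynomial (Fin (n + 1)) K) → Submodule k (Fin (n + 1) → k) := fun P =>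
    { carrier := {a | lin K a ∈ P}
      zero_mem' := by simp [lin]
      add_mem' := fun {a b} ha hb => by
        simp only [Set.mem_setOf_eq, lin_add] at *
        exact P.add_mem ha hb
      smul_mem' := fun c a ha => by
        simp only [Set.mem_setOf_eq, lin_smul] at *
        exact P.mul_mem_left _ ha }
  have hne : (⋃ p ∈ S.image sub, (p : Set (Fin (n + 1) → k))) ≠ Set.univ := by
    refine Subspace.biUnion_ne_univ_of_top_notMem fun h => ?_
    obtain ⟨P, hP, hPt⟩ := Finset.mem_image.1 h
    obtain ⟨i, hi⟩ := hS P hP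
    apply hi
    have : Pi.single i (1 : k) ∈ sub P := by rw [hPt]; trivial
    have h1 : lin K (Pi.single i (1 : k)) ∈ P := this
    simpa [lin, Pi.single_apply, ite_mul, apply_ite C] using h1
  rw [Ne, Set.eq_univ_iff_forall] at hne
  push Not at hne
  obtain ⟨a, ha⟩ := hne
  refine ⟨a, fun P hP hl => ha ?_⟩
  simp only [Set.mem_iUnion, SetLike.mem_coe, exists_prop]
  exact ⟨sub P, Finset.mem_image_of_mem _ hP, hl⟩

/-- A homogeneous ideal whose quotient has dimension at most `e` is cut down to the irrelevant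
ideal by `e` linear forms with coefficients in `k`. -/
theorem exists_cert [Infinite k] : ∀ (e : ℕ) (I : Ideal (MvPolynomial (Fin (n + 1)) K)),
    I.IsHomogeneous (CohB1.polyGrading n K) →
    ringKrullDim (MvPolynomial (Fin (n + 1)) K ⧸ I) ≤ (e : WithBot ℕ∞) →
    ∃ a : Fin e → Fin (n + 1) → k, ∀ i,
      (X i : MvPolynomial (Fin (n + 1)) K) ∈
        (I ⊔ Ideal.span (Set.range fun l => lin K (a l))).radical
  | 0, I, hI, hd => by
    refine ⟨Fin.elim0, fun i => ?_⟩
    rw [Set.range_eq_empty, Ideal.span_empty, sup_bot_eq, Ideal.radical_eq_sInf, Submodule.mem_sInf]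
    rintro P ⟨hIP, hP⟩
    obtain ⟨Q, hQ, hQP⟩ := Ideal.exists_minimalPrimes_le hIP
    apply hQP
    have hle := le_irr (minimal_isHomogeneous hI hQ) hQ.1.1.ne_top
    rcases hle.lt_or_eq with hlt | heq
    · exfalso
      let a : PrimeSpectrum.zeroLocus (R := MvPolynomial (Fin (n + 1)) K) (I : Set _) :=
        ⟨⟨Q, hQ.1.1⟩, hQ.1.2⟩
      let b : PrimeSpectrum.zeroLocus (R := MvPolynomial (Fin (n + 1)) K) (I : Set _) :=
        ⟨⟨irr K n, irr_isMaximal.isPrime⟩, hQ.1.2.trans hle⟩
      have h1 := Order.LTSeries.length_le_krullDim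
        ((RelSeries.singleton _ a).snoc b (show a < b from hlt))
      rw [← ringKrullDim_quotient] at h1
      have := h1.trans hd
      simp only [RelSeries.snoc, RelSeries.append, RelSeries.singleton, Nat.cast_zero] at this
      exact absurd this (by norm_num)
    · rw [heq]
      exact X_mem_irr i
  | e + 1, I, hI, hd => by
    classical
    have hfin := Ideal.finite_minimalPrimes_of_isNoetherianRing (MvPolynomial (Fin (n + 1)) K) I
    obtain ⟨a, ha⟩ := exists_avoid (k := k) (hfin.toFinset.filter fun P => ∃ i, X i ∉ P)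
      fun P hP => (Finset.mem_filter.1 hP).2
    have hJ : (I ⊔ Ideal.span {lin K a}).IsHomogeneous (CohB1.polyGrading n K) := by
      refine hI.sup ?_
      simpa using isHomogeneous_span_lin (K := K) ({a} : Set (Fin (n + 1) → k))
    have hdJ : ringKrullDim (MvPolynomial (Fin (n + 1)) K ⧸ (I ⊔ Ideal.span {lin K a})) ≤
        (e : WithBot ℕ∞) := by
      rw [ringKrullDim_quotient]
      refine iSup_le fun p => ?_
      have hhead : I ⊔ Ideal.span {lin K a} ≤ p.head.1.asIdeal := p.head.2
      obtain ⟨P, hP, hPQ⟩ := Ideal.exists_minimalPrimes_le (le_sup_left.trans hhead)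
      by_cases hX : ∀ i, (X i : MvPolynomial (Fin (n + 1)) K) ∈ P
      · have hPe := eq_irr_of_X_mem hP.1.1.ne_top hX
        have hlen : p.length = 0 := by
          by_contra hne
          have h01 : p.head < p (Fin.succ ⟨0, Nat.pos_of_ne_zero hne⟩) :=
            p.strictMono (show (0 : Fin (p.length + 1)) < _ from Fin.succ_pos _)
          have h2 : irr K n ≤ p.head.1.asIdeal := hPe ▸ hPQ
          have h3 : p.head.1.asIdeal < (p (Fin.succ ⟨0, Nat.pos_of_ne_zero hne⟩)).1.asIdeal := h01
          exact (p (Fin.succ ⟨0, Nat.pos_of_ne_zero hne⟩)).1.isPrime.ne_top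
            (irr_isMaximal.1.2 _ (lt_of_le_of_lt h2 h3))
        rw [hlen]
        simp
      · push Not at hX
        have hnot := ha P (Finset.mem_filter.2 ⟨hfin.mem_toFinset.2 hP, hX⟩)
        have hlt : P < p.head.1.asIdeal := lt_of_le_of_ne hPQ fun h =>
          hnot (h ▸ (hhead (Ideal.mem_sup_right (Ideal.subset_span rfl))))
        let a₀ : PrimeSpectrum.zeroLocus (R := MvPolynomial (Fin (n + 1)) K) (I : Set _) :=
          ⟨⟨P, hP.1.1⟩, hP.1.2⟩
        let q : LTSeries (PrimeSpectrum.zeroLocus (R := MvPolynomial (Fin (n + 1)) K) (I : Set _)) :=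
          p.map (fun x => ⟨x.1, show I ≤ x.1.asIdeal from le_sup_left.trans x.2⟩) fun x y h => h
        have h1 := Order.LTSeries.length_le_krullDim (q.cons a₀ (show a₀ < q.head from hlt))
        rw [← ringKrullDim_quotient] at h1
        have h2 := h1.trans hd
        simp only [RelSeries.cons_length, q, LTSeries.map_length] at h2
        have h3 : p.length + 1 ≤ e + 1 := by exact_mod_cast h2
        exact_mod_cast (by omega : p.length ≤ e)
    obtain ⟨b, hb⟩ := exists_cert e _ hJ hdJ
    refine ⟨Fin.cons a b, fun i => ?_⟩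
    have : Set.range (fun l => lin K (Fin.cons (α := fun _ => Fin (n + 1) → k) a b l)) =
        insert (lin K a) (Set.range fun l => lin K (b l)) := by
      rw [← Fin.range_cons]
      congr 1
      funext l
      refine Fin.cases ?_ ?_ l <;> simp
    rw [this, Ideal.span_insert, ← sup_assoc]
    exact hb i

/-- Conversely such linear forms bound the dimension. -/
theorem dim_le_of_cert {ι : Type*} [Finite ι] (I : Ideal (MvPolynomial (Fin (n + 1)) K))
    (hI : I.IsHomogeneous (CohB1.polyGrading n K)) (g : ι → MvPolynomial (Fin (n + 1)) K)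
    (hg : ∀ l, g l ∈ irr K n)
    (h : ∀ i, (X i : MvPolynomial (Fin (n + 1)) K) ∈ (I ⊔ Ideal.span (Set.range g)).radical) :
    ringKrullDim (MvPolynomial (Fin (n + 1)) K ⧸ I) ≤ (Nat.card ι : WithBot ℕ∞) := by
  rw [ringKrullDim_quotient]
  refine iSup_le fun p => ?_
  obtain ⟨P, hP, hPQ⟩ := Ideal.exists_minimalPrimes_le (J := p.head.1.asIdeal) p.head.2
  haveI := hP.1.1
  set A := MvPolynomial (Fin (n + 1)) K ⧸ P
  haveI : Algebra.FiniteType K A :=
    Algebra.FiniteType.of_surjective (Ideal.Quotient.mkₐ K P) Ideal.Quotient.mk_surjective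
  have hPM : P ≤ irr K n := le_irr (minimal_isHomogeneous hI hP) hP.1.1.ne_top
  set M : Ideal A := (irr K n).map (Ideal.Quotient.mk P) with hM
  haveI hMmax : M.IsMaximal :=
    Ideal.IsMaximal.map_of_surjective_of_ker_le Ideal.Quotient.mk_surjective
      (by rw [Ideal.mk_ker]; exact hPM)
  set J : Ideal A := Ideal.span (Set.range (Ideal.Quotient.mk P ∘ g)) with hJ
  have hJM : J ≤ M := Ideal.span_le.2 (by
    rintro _ ⟨l, rfl⟩
    exact Ideal.mem_map_of_mem _ (hg l))
  have hMmin : M ∈ J.minimalPrimes := by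
    refine ⟨⟨hMmax.isPrime, hJM⟩, fun Q hQ _ => ?_⟩
    rw [hM, Ideal.map_le_iff_le_comap]
    refine irr_le_of_X_mem fun i => ?_
    have hle : I ⊔ Ideal.span (Set.range g) ≤ Q.comap (Ideal.Quotient.mk P) := by
      refine sup_le (fun x hx => ?_) (Ideal.span_le.2 ?_)
      · simp [Ideal.Quotient.eq_zero_iff_mem.2 (hP.1.2 hx)]
      · rintro _ ⟨l, rfl⟩
        exact hQ.2 (Ideal.subset_span ⟨l, rfl⟩)
    haveI := hQ.1
    exact ((Ideal.IsPrime.comap (Ideal.Quotient.mk P)).radical_le_iff.2 hle) (h i)
  haveI : IsNoetherianRing A := Ideal.Quotient.isNoetherianRing P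
  have h1 : M.height ≤ J.spanFinrank := by
    refine (Ideal.height_le_spanRank_toENat_of_mem_minimalPrimes _ _ hMmin).trans (le_of_eq ?_)
    rw [Submodule.fg_iff_spanRank_eq_spanFinrank.2 (IsNoetherian.noetherian J)]
    simp
  have h2 : J.spanFinrank ≤ Nat.card ι := by
    refine le_trans (Submodule.spanFinrank_span_le_ncard_of_finite (Set.finite_range _)) ?_
    exact Finite.card_range_le _
  have h3 := VarDim.height_eq_ringKrullDim_of_isMaximal K A M
  -- the chain lives above `P`
  let q : LTSeries (PrimeSpectrum.zeroLocus (R := MvPolynomial (Fin (n + 1)) K) (P : Set _)) :=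
    { length := p.length
      toFun := fun j => ⟨(p j).1, hPQ.trans (show p.head.1.asIdeal ≤ (p j).1.asIdeal from
        LTSeries.monotone p (Fin.zero_le j))⟩
      step := fun j => p.step j }
  have h4 := Order.LTSeries.length_le_krullDim q
  rw [← ringKrullDim_quotient, ← h3] at h4
  refine h4.trans ?_
  have h5 : M.height ≤ (Nat.card ι : ℕ∞) := h1.trans (by exact_mod_cast h2)
  exact_mod_cast h5

end Groth.Agent.GenPt
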