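import Groth.Prelude.Def_LefPen
import Mathlib
import Groth.Agent.GenericFibre.Forms
import Groth.Agent.VarDim.Algebra

/-!
Lower bound for the Hilbert function of a prime of the polynomial ring: coordinates forming a
transcendence basis of the quotient have no polynomial relation.
-/

open MvPolynomial

universe u

namespace Groth.Agent.GenPt

variable {k : Type u} [Field k] {m : ℕ}

theorem exists_indep_coords (P : Ideal (MvPolynomial (Fin (m + 1)) k)) [P.IsPrime] (e : ℕ)
    (hdim : ringKrullDim (MvPolynomial (Fin (m + 1)) k ⧸ P) = ((e + 1 : ℕ) : WithBot ℕ∞)) :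
    ∃ ι : Fin (e + 1) → Fin (m + 1), Function.Injective ι ∧
      AlgebraicIndependent k fun i => Ideal.Quotient.mk P (X (ι i)) := by
  classical
  set A := MvPolynomial (Fin (m + 1)) k ⧸ P
  set x : Fin (m + 1) → A := fun i => Ideal.Quotient.mk P (X i) with hx
  haveI : Algebra.FiniteType k A :=
    Algebra.FiniteType.of_surjective (Ideal.Quotient.mkₐ k P) Ideal.Quotient.mk_surjective
  have htr := VarDim.trdeg_eq_of_ringKrullDim_eq k A (n := e + 1) hdim
  have hgen : Algebra.adjoin k (Set.range x) = ⊤ := by
    have h1 : x = (Ideal.Quotient.mkₐ k P) ∘ X := rfl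
    rw [h1, Set.range_comp, ← AlgHom.map_adjoin, MvPolynomial.adjoin_range_X, Algebra.map_top,
      AlgHom.range_eq_top]
    exact Ideal.Quotient.mk_surjective
  haveI : Algebra.IsAlgebraic (Algebra.adjoin k (Set.range x)) A := by
    refine ⟨fun a => ?_⟩
    have : a ∈ Algebra.adjoin k (Set.range x) := by rw [hgen]; trivial
    exact isAlgebraic_algebraMap (⟨a, this⟩ : Algebra.adjoin k (Set.range x))
  obtain ⟨t, ht, htb⟩ := exists_isTranscendenceBasis_subset (R := k) (Set.range x)
  have hcard : Cardinal.mk t = ((e + 1 : ℕ) : Cardinal) := by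
    rw [htb.cardinalMk_eq_trdeg, htr]
  haveI : Finite t := ((Set.finite_range x).subset ht).to_subtype
  haveI : Fintype t := Fintype.ofFinite t
  have hc : Fintype.card t = e + 1 := by
    rw [Cardinal.mk_fintype] at hcard
    exact_mod_cast hcard
  let σ : Fin (e + 1) ≃ t := (Fintype.equivFinOfCardEq hc).symm
  choose g hg using fun i : Fin (e + 1) => ht (σ i).2
  refine ⟨g, fun a b hab => σ.injective (Subtype.ext ?_), ?_⟩
  · rw [← hg a, ← hg b, hab]
  · have h2 := htb.1.comp σ σ.injective
    convert h2 using 1
    funext i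
    exact hg i

theorem choose_le (e d : ℕ) (he : 1 ≤ e) : e + d + 1 ≤ Nat.choose (e + (d + 1)) (d + 1) := by
  induction e, he using Nat.le_induction with
  | base =>
    rw [show 1 + (d + 1) = (d + 1) + 1 by omega, Nat.choose_succ_self_right]
    omega
  | succ e he ih =>
    rw [show e + 1 + (d + 1) = (e + (d + 1)) + 1 by omega, Nat.choose_succ_succ']
    have : 0 < Nat.choose (e + (d + 1)) d := Nat.choose_pos (by omega)
    omega

/-- Forms of degree `d + 1` in a prime whose quotient has dimension `e + 1` have codimension at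
least `e + d + 1`. -/
theorem codim_forms_of_prime (P : Ideal (MvPolynomial (Fin (m + 1)) k)) [P.IsPrime] (e d : ℕ)
    (he : 1 ≤ e)
    (hdim : ringKrullDim (MvPolynomial (Fin (m + 1)) k ⧸ P) = ((e + 1 : ℕ) : WithBot ℕ∞)) :
    e + d + 1 + Module.finrank k
        ↥(CohB1.polyGrading m k (d + 1) ⊓ Submodule.restrictScalars k P)
      ≤ Module.finrank k (LefPen.Form m k (d + 1)) := by
  obtain ⟨g, hginj, hg⟩ := exists_indep_coords P e hdim
  let φ : LefPen.Form m k (d + 1) →ₗ[k] MvPolynomial (Fin (m + 1)) k ⧸ P :=
    (Ideal.Quotient.mkₐ k P).toLinearMap.comp (CohB1.polyGrading m k (d + 1)).subtype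
  let r : LefPen.Form e k (d + 1) →ₗ[k] LefPen.Form m k (d + 1) :=
    LinearMap.codRestrict _ ((rename g).toLinearMap.comp (CohB1.polyGrading e k (d + 1)).subtype)
      fun F => (mem_homogeneousSubmodule _ _).2
        (((mem_homogeneousSubmodule _ _).1 F.2).rename_isHomogeneous)
  have hinj : Function.Injective (φ.comp r) := by
    intro F G h
    apply Subtype.ext
    apply hg
    have he' : ((Ideal.Quotient.mkₐ k P).comp (rename g)) =
        aeval (fun i => Ideal.Quotient.mk P (X (g i))) := algHom_ext fun i => by simp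
    rw [← he']
    exact h
  haveI : FiniteDimensional k (LefPen.Form m k (d + 1)) :=
    Module.Finite.equiv (GenericFibre.coeffEquiv (k := k) (n := m) (d := d + 1)).symm
  haveI : FiniteDimensional k (LefPen.Form e k (d + 1)) :=
    Module.Finite.equiv (GenericFibre.coeffEquiv (k := k) (n := e) (d := d + 1)).symm
  have h1 : Module.finrank k (LefPen.Form e k (d + 1)) ≤ Module.finrank k (LinearMap.range φ) :=
    LinearMap.finrank_le_finrank_of_injective
      (f := LinearMap.codRestrict (LinearMap.range φ) (φ.comp r) fun F => ⟨r F, rfl⟩)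
      fun a b h => hinj (congrArg Subtype.val h)
  have h2 := φ.finrank_range_add_finrank_ker
  have h3 : Module.finrank k (LinearMap.ker φ) = Module.finrank k
      ↥(CohB1.polyGrading m k (d + 1) ⊓ Submodule.restrictScalars k P) := by
    have : (LinearMap.ker φ).map (CohB1.polyGrading m k (d + 1)).subtype =
        CohB1.polyGrading m k (d + 1) ⊓ Submodule.restrictScalars k P := by
      ext F
      simp [φ, Ideal.Quotient.eq_zero_iff_mem, and_comm]
    rw [← this, Submodule.finrank_map_subtype_eq]
  have h4 := choose_le e d he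
  rw [GenericFibre.finrank_form] at h1
  omega

theorem ringKrullDim_quotient_radical {R : Type*} [CommRing R] (I : Ideal R) :
    ringKrullDim (R ⧸ I.radical) = ringKrullDim (R ⧸ I) := by
  rw [ringKrullDim_quotient, ringKrullDim_quotient, PrimeSpectrum.zeroLocus_radical]

end Groth.Agent.GenPt
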