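import Groth.Prelude.Def_LefPen
import Mathlib
import Groth.Agent.GenPt.Hilbert
import Groth.Agent.GenPt.Proper

/-!
Parameter count for tuples of forms whose common zero locus is too large: over an algebraically
closed field their coefficients are algebraic over few of their number.
-/

open MvPolynomial

universe u

namespace Groth.Agent.GenPt

variable {k : Type u} [Field k] {Ω : Type u} [Field Ω] [Algebra k Ω]

variable (k) in
/-- The elements of `Ω` algebraic over `k(T)`. -/
noncomputable def cl (T : Set Ω) : IntermediateField k Ω :=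
  (algebraicClosure (IntermediateField.adjoin k T) Ω).restrictScalars k

theorem mem_cl {T : Set Ω} {x : Ω} :
    x ∈ cl k T ↔ IsAlgebraic (IntermediateField.adjoin k T) x := by
  rw [cl, IntermediateField.mem_restrictScalars, mem_algebraicClosure_iff]

theorem subset_cl (T : Set Ω) : T ⊆ cl k T := fun x hx => by
  rw [SetLike.mem_coe, mem_cl]
  exact isAlgebraic_algebraMap (⟨x, IntermediateField.subset_adjoin k T hx⟩ :
    IntermediateField.adjoin k T)

instance isAlgClosed_cl [IsAlgClosed Ω] (T : Set Ω) : IsAlgClosed (cl k T) :=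
  (show IsAlgClosed (algebraicClosure (IntermediateField.adjoin k T) Ω) from
    (algebraicClosure.isAlgClosure (IntermediateField.adjoin k T) Ω).isAlgClosed)

theorem cl_le [IsAlgClosed Ω] {T T' : Set Ω} (h : T ⊆ cl k T') : cl k T ≤ cl k T' := by
  intro x hx
  rw [mem_cl] at hx
  have hle : IntermediateField.adjoin k T ≤ cl k T' := IntermediateField.adjoin_le_iff.2 h
  have h2 : IsAlgebraic (cl k T') x :=
    hx.ringHom_of_comp_eq (IntermediateField.inclusion hle).toRingHom (RingHom.id Ω)
      (IntermediateField.inclusion hle).injective rfl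
  obtain ⟨y, hy⟩ : x ∈ (algebraMap (cl k T') Ω).range := by
    refine minpoly.mem_range_of_degree_eq_one _ _ ?_
    exact IsAlgClosed.degree_eq_one_of_irreducible _ (minpoly.irreducible h2.isIntegral)
  rw [← hy]
  exact y.2

theorem cl_mono [IsAlgClosed Ω] {T T' : Set Ω} (h : T ⊆ T') : cl k T ≤ cl k T' :=
  cl_le (h.trans (subset_cl T'))

/-- A subalgebra inside `cl T` has transcendence degree at most the size of `T`. -/
theorem trdeg_le_of_mem_cl {A : Type u} [CommRing A] [Algebra k A] (j : A →ₐ[k] Ω)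
    (hj : Function.Injective j) (T : Finset Ω) (h : ∀ a, j a ∈ cl k (T : Set Ω)) :
    Algebra.trdeg k A ≤ (T.card : Cardinal) := by
  set S := cl k (T : Set Ω)
  let jS : A →ₐ[k] S := AlgHom.codRestrict j S.toSubalgebra h
  have hjS : Function.Injective jS := fun a b hab => hj (congrArg Subtype.val hab)
  refine (trdeg_le_of_injective jS hjS).trans ?_
  set s : Set S := {x | x.1 ∈ (T : Set Ω)} with hs
  have himg : (Algebra.adjoin k s).map S.val = Algebra.adjoin k (T : Set Ω) := by
    rw [AlgHom.map_adjoin]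
    congr 1
    ext x
    constructor
    · rintro ⟨y, hy, rfl⟩
      exact hy
    · intro hx
      exact ⟨⟨x, subset_cl _ hx⟩, hx, rfl⟩
  haveI : Algebra.IsAlgebraic (Algebra.adjoin k s) S := by
    refine ⟨fun x => ?_⟩
    have hx : IsAlgebraic (Algebra.adjoin k (T : Set Ω)) (x : Ω) :=
      IntermediateField.isAlgebraic_adjoin_iff.1 (mem_cl.1 x.2)
    let e : Algebra.adjoin k s →+* Algebra.adjoin k (T : Set Ω) :=
      { toFun := fun y => ⟨(y.1 : Ω), himg ▸ Subalgebra.mem_map.2 ⟨y.1, y.2, rfl⟩⟩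
        map_one' := rfl
        map_mul' := fun _ _ => rfl
        map_zero' := rfl
        map_add' := fun _ _ => rfl }
    refine IsAlgebraic.of_ringHom_of_comp_eq e S.val.toRingHom hx ?_ Subtype.val_injective rfl
    rintro ⟨z, hz⟩
    rw [← himg] at hz
    obtain ⟨y, hy, rfl⟩ := Subalgebra.mem_map.1 hz
    exact ⟨⟨y, hy⟩, rfl⟩
  refine (Algebra.IsAlgebraic.trdeg_le_cardinalMk k s).trans ?_
  have hi : Cardinal.mk s ≤ Cardinal.mk T :=
    Cardinal.mk_le_of_injective (f := fun x : s => (⟨x.1.1, x.2⟩ : T)) fun a b hab =>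
      Subtype.ext (Subtype.ext (congrArg (fun z : T => (z : Ω)) hab))
  simpa using hi

section Extend

variable {E : Type u} [Field E] [Algebra E Ω] {σ : Type*}

open Classical in
/-- Coefficientwise application of a linear map. -/
noncomputable def coordMap (ρ : Ω →ₗ[E] E) (F : MvPolynomial σ Ω) : MvPolynomial σ E :=
  ∑ m ∈ F.support, monomial m (ρ (coeff m F))

theorem coeff_coordMap (ρ : Ω →ₗ[E] E) (F : MvPolynomial σ Ω) (m : σ →₀ ℕ) :
    coeff m (coordMap ρ F) = ρ (coeff m F) := by
  classical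
  simp only [coordMap, coeff_sum, coeff_monomial, Finset.sum_ite_eq', mem_support_iff]
  by_cases hm : coeff m F = 0 <;> simp [hm]

theorem coordMap_mul (ρ : Ω →ₗ[E] E) (p : MvPolynomial σ Ω) (f : MvPolynomial σ E) :
    coordMap ρ (p * map (algebraMap E Ω) f) = coordMap ρ p * f := by
  classical
  ext m
  rw [coeff_coordMap, coeff_mul, coeff_mul, map_sum]
  refine Finset.sum_congr rfl fun x _ => ?_
  rw [coeff_map, coeff_coordMap, mul_comm, ← Algebra.smul_def, map_smul, smul_eq_mul, mul_comm]

theorem coordMap_add (ρ : Ω →ₗ[E] E) (p q : MvPolynomial σ Ω) :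
    coordMap ρ (p + q) = coordMap ρ p + coordMap ρ q := by
  ext m
  simp [coeff_coordMap]

theorem coordMap_mem {Q : Ideal (MvPolynomial σ E)} {F : MvPolynomial σ Ω}
    (hF : F ∈ Q.map (map (algebraMap E Ω))) (ρ : Ω →ₗ[E] E) : coordMap ρ F ∈ Q := by
  refine Submodule.span_induction (p := fun F _ => ∀ q, coordMap ρ (q * F) ∈ Q)
    ?_ ?_ ?_ ?_ hF 1 |> (fun h => by simpa using h)
  · rintro _ ⟨f, hf, rfl⟩ q
    rw [coordMap_mul]
    exact Q.mul_mem_left _ hf
  · intro q
    convert Q.zero_mem
    ext m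
    simp [coeff_coordMap]
  · intro a b _ _ ha hb q
    rw [mul_add, coordMap_add]
    exact Q.add_mem (ha q) (hb q)
  · intro c a _ ha q
    rw [smul_eq_mul, ← mul_assoc]
    exact ha _

theorem eval_coordMap (ρ : Ω →ₗ[E] E) (F : MvPolynomial σ Ω) (a : σ → E) :
    eval a (coordMap ρ F) = ρ (eval (fun i => algebraMap E Ω (a i)) F) := by
  classical
  conv_rhs => rw [eval_eq, map_sum]
  rw [coordMap, map_sum]
  refine Finset.sum_congr rfl fun m _ => ?_
  rw [eval_monomial, ← Finsupp.prod, mul_comm (coeff m F)]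
  have : (∏ i ∈ m.support, algebraMap E Ω (a i) ^ m i) =
      algebraMap E Ω (m.prod fun i e => a i ^ e) := by
    simp [Finsupp.prod, map_prod]
  rw [show (m.prod fun i e => (algebraMap E Ω (a i)) ^ e) = _ from this, ← Algebra.smul_def,
    map_smul, smul_eq_mul, mul_comm]

/-- A polynomial is spanned by finitely many of its coordinates. -/
theorem exists_decomp (F : MvPolynomial σ Ω) :
    ∃ (r : ℕ) (ω : Fin r → Ω) (ρ : Fin r → Ω →ₗ[E] E),
      F = ∑ l, C (ω l) * map (algebraMap E Ω) (coordMap (ρ l) F) := by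
  classical
  let W : Submodule E Ω := Submodule.span E ((fun m => coeff m F) '' (F.support : Set (σ →₀ ℕ)))
  haveI : FiniteDimensional E W :=
    FiniteDimensional.span_of_finite E ((F.support.finite_toSet).image _)
  let b := Module.finBasis E W
  obtain ⟨π, hπ⟩ := LinearMap.exists_leftInverse_of_injective W.subtype W.ker_subtype
  refine ⟨_, fun l => (b l : Ω), fun l => (b.coord l).comp π, ?_⟩
  ext m
  simp only [coeff_sum, coeff_C_mul, coeff_map, coeff_coordMap, LinearMap.comp_apply]
  have hm : coeff m F ∈ W := by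
    by_cases h : m ∈ F.support
    · exact Submodule.subset_span ⟨m, h, rfl⟩
    · rw [notMem_support_iff.1 h]
      exact W.zero_mem
  have hπm : π (coeff m F) = ⟨_, hm⟩ := LinearMap.congr_fun hπ ⟨_, hm⟩
  conv_lhs => rw [show coeff m F = W.subtype (⟨_, hm⟩ : W) from rfl, ← b.sum_repr ⟨_, hm⟩]
  simp only [map_sum, map_smul, Submodule.subtype_apply, hπm, Module.Basis.coord_apply]
  exact Finset.sum_congr rfl fun l _ => by rw [Algebra.smul_def, mul_comm]

theorem mem_map_of_coordMap {Q : Ideal (MvPolynomial σ E)} {F : MvPolynomial σ Ω}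
    (h : ∀ ρ : Ω →ₗ[E] E, coordMap ρ F ∈ Q) : F ∈ Q.map (map (algebraMap E Ω)) := by
  obtain ⟨r, ω, ρ, hF⟩ := exists_decomp (E := E) F
  rw [hF]
  exact Ideal.sum_mem _ fun l _ => Ideal.mul_mem_left _ _ (Ideal.mem_map_of_mem _ (h _))

/-- Over an algebraically closed field primes stay prime under field extensions. -/
theorem isPrime_map [IsAlgClosed E] [Finite σ] (Q : Ideal (MvPolynomial σ E)) [hQ : Q.IsPrime] :
    (Q.map (map (algebraMap E Ω))).IsPrime := by
  refine ⟨fun h => ?_, fun {F G} hFG => ?_⟩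
  · obtain ⟨ρ, hρ⟩ := LinearMap.exists_leftInverse_of_injective (Algebra.linearMap E Ω)
      (LinearMap.ker_eq_bot.2 (algebraMap E Ω).injective)
    have h1 := coordMap_mem (h ▸ Submodule.mem_top : (1 : MvPolynomial σ Ω) ∈ Q.map _) ρ
    apply hQ.ne_top
    rw [Ideal.eq_top_iff_one]
    convert h1 using 1
    ext m
    have hc : ρ (algebraMap E Ω (coeff m (1 : MvPolynomial σ E))) = coeff m 1 :=
      LinearMap.congr_fun hρ _
    rw [coeff_coordMap, ← map_one (map (algebraMap E Ω)), coeff_map, hc]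
  · by_contra hne
    push Not at hne
    obtain ⟨ρ, hρ⟩ : ∃ ρ : Ω →ₗ[E] E, coordMap ρ F ∉ Q := by
      by_contra h
      push Not at h
      exact hne.1 (mem_map_of_coordMap h)
    obtain ⟨τ, hτ⟩ : ∃ τ : Ω →ₗ[E] E, coordMap τ G ∉ Q := by
      by_contra h
      push Not at h
      exact hne.2 (mem_map_of_coordMap h)
    have hprod : coordMap ρ F * coordMap τ G ∉ Q := fun h => (hQ.mem_or_mem h).elim hρ hτ
    rw [← hQ.radical, ← vanishingIdeal_zeroLocus_eq_radical (K := E)] at hprod
    simp only [mem_vanishingIdeal_iff, not_forall] at hprod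
    obtain ⟨a, ha, hne0⟩ := hprod
    set a' : σ → Ω := fun i => algebraMap E Ω (a i) with ha'
    have h0 : eval a' (F * G) = 0 := by
      refine Submodule.span_induction (p := fun H _ => eval a' H = 0) ?_ ?_ ?_ ?_ hFG
      · rintro _ ⟨f, hf, rfl⟩
        have := (mem_zeroLocus_iff.1 ha) f hf
        rw [eval_map, ha']
        rw [show eval₂ (algebraMap E Ω) (fun i => algebraMap E Ω (a i)) f =
          algebraMap E Ω (aeval a f) from (MvPolynomial.eval₂_comp (algebraMap E Ω) a f).symm,
          this, map_zero]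
      · simp
      · intro x y _ _ hx hy
        simp [hx, hy]
      · intro c x _ hx
        simp [hx]
    rw [map_mul] at h0
    rw [show (aeval a) (coordMap ρ F * coordMap τ G) =
      eval a (coordMap ρ F) * eval a (coordMap τ G) by simp, eval_coordMap, eval_coordMap] at hne0
    rcases mul_eq_zero.1 h0 with h | h <;> simp [← ha', h] at hne0

end Extend

section Bad

variable {m : ℕ}

/-- The ideal generated by the first `j` forms. -/
noncomputable def prefixIdeal {d : ℕ} (g : Fin d → MvPolynomial (Fin (m + 1)) Ω) (j : ℕ) :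
    Ideal (MvPolynomial (Fin (m + 1)) Ω) :=
  Ideal.span (g '' {l | l.1 < j})

theorem exists_excess_step {d : ℕ} (g : Fin d → MvPolynomial (Fin (m + 1)) Ω)
    (hbad : ¬ ringKrullDim (MvPolynomial (Fin (m + 1)) Ω ⧸ Ideal.span (Set.range g)) ≤
      ((m + 1 - d : ℕ) : WithBot ℕ∞)) :
    ∃ j, j < d ∧ ringKrullDim (MvPolynomial (Fin (m + 1)) Ω ⧸ prefixIdeal g j) ≤
        ((m + 1 - j : ℕ) : WithBot ℕ∞) ∧
      ¬ ringKrullDim (MvPolynomial (Fin (m + 1)) Ω ⧸ prefixIdeal g (j + 1)) ≤
        ((m + 1 - (j + 1) : ℕ) : WithBot ℕ∞) := by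
  classical
  let P : ℕ → Prop := fun j => ¬ ringKrullDim (MvPolynomial (Fin (m + 1)) Ω ⧸ prefixIdeal g j) ≤
    ((m + 1 - j : ℕ) : WithBot ℕ∞)
  have hd : P d := by
    have : prefixIdeal g d = Ideal.span (Set.range g) := by
      rw [prefixIdeal, ← Set.image_univ]
      congr 2
      ext l
      simp [l.2]
    show ¬ _ ≤ _
    rw [this]
    exact hbad
  have h0 : ¬ P 0 := by
    simp only [P, not_not]
    refine (ringKrullDim_quotient_le _).trans ?_
    rw [MvPolynomial.ringKrullDim_of_isNoetherianRing, ringKrullDim_eq_zero_of_field]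
    simp
  have hex : ∃ j, P j := ⟨d, hd⟩
  have hj := Nat.find_spec hex
  obtain ⟨i, hi⟩ : ∃ i, Nat.find hex = i + 1 :=
    ⟨Nat.find hex - 1, (Nat.succ_pred_eq_of_ne_zero fun h => h0 (h ▸ hj)).symm⟩
  refine ⟨i, ?_, not_not.1 (Nat.find_min hex (by omega) : ¬ P i), hi ▸ hj⟩
  have := Nat.find_min' hex hd
  omega

/-- The parameter count. -/
theorem exists_few [IsAlgClosed Ω] {d : ℕ} (hdm : d ≤ m) (deg : Fin d → ℕ)
    (hdeg : ∀ l, deg l = l.1 + 1) (g : Fin d → MvPolynomial (Fin (m + 1)) Ω)
    (hg : ∀ l, (g l).IsHomogeneous (deg l))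
    (hbad : ¬ ringKrullDim (MvPolynomial (Fin (m + 1)) Ω ⧸ Ideal.span (Set.range g)) ≤
      ((m + 1 - d : ℕ) : WithBot ℕ∞)) (T₀ : Finset Ω) :
    ∃ T : Finset Ω, T₀ ⊆ T ∧
      T.card + (m + 1) ≤ T₀.card + ∑ l, Nat.choose (m + deg l) (deg l) ∧
      ∀ l e, coeff e (g l) ∈ cl k (T : Set Ω) := by
  classical
  obtain ⟨j, hjd, hle, hgt⟩ := exists_excess_step g hbad
  set jj : Fin d := ⟨j, hjd⟩ with hjj
  -- coefficients of all other forms
  let mons : Fin d → Finset (Fin (m + 1) →₀ ℕ) := fun l => (g l).support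
  let coeffs : Fin d → Finset Ω := fun l => (mons l).image fun e => coeff e (g l)
  have hcard : ∀ l, (coeffs l).card ≤ Nat.choose (m + deg l) (deg l) := by
    intro l
    refine Finset.card_image_le.trans ?_
    rw [← GenericFibre.card_mon]
    rw [← Fintype.card_coe]
    refine Fintype.card_le_of_injective
      (fun e => (⟨e.1, by
        have := hg l (mem_support_iff.1 e.2)
        rw [Finsupp.degree_eq_weight_one]
        exact this⟩ :
          GenericFibre.Mon m (deg l))) ?_
    intro a b hab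
    exact Subtype.ext (congrArg (fun z : GenericFibre.Mon m (deg l) => z.1) hab)
  set T₁ : Finset Ω := T₀ ∪ (Finset.univ.erase jj).biUnion coeffs with hT₁
  set E := cl k (T₁ : Set Ω) with hE
  have hin : ∀ l, l ≠ jj → ∀ e, coeff e (g l) ∈ E := by
    intro l hl e
    by_cases he : e ∈ (g l).support
    · refine subset_cl _ ?_
      rw [hT₁, Finset.mem_coe, Finset.mem_union, Finset.mem_biUnion]
      exact Or.inr ⟨l, Finset.mem_erase.2 ⟨hl, Finset.mem_univ l⟩,
        Finset.mem_image.2 ⟨e, he, rfl⟩⟩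
    · rw [notMem_support_iff.1 he]
      exact E.zero_mem
  -- an excess prime
  rw [ringKrullDim_quotient] at hgt
  obtain ⟨p, hp⟩ : ∃ p : LTSeries (PrimeSpectrum.zeroLocus (R := MvPolynomial (Fin (m + 1)) Ω)
      (prefixIdeal g (j + 1) : Set _)), m + 1 - (j + 1) < p.length := by
    by_contra h
    push Not at h
    exact hgt (iSup_le fun p => by exact_mod_cast h p)
  set QW := p.head.1.asIdeal with hQW
  haveI : QW.IsPrime := p.head.1.isPrime
  have hQWle : prefixIdeal g (j + 1) ≤ QW := p.head.2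
  have hpre : prefixIdeal g j ≤ prefixIdeal g (j + 1) :=
    Ideal.span_mono (Set.image_mono fun l hl => Nat.lt_succ_of_lt hl)
  let φ : MvPolynomial (Fin (m + 1)) E →+* MvPolynomial (Fin (m + 1)) Ω := map (algebraMap E Ω)
  set Q : Ideal (MvPolynomial (Fin (m + 1)) E) := QW.comap φ with hQ
  haveI : Q.IsPrime := Ideal.IsPrime.comap φ
  haveI hQP : (Q.map φ).IsPrime := isPrime_map Q
  have hQΩle : Q.map φ ≤ QW := Ideal.map_comap_le
  have hpreQ : prefixIdeal g j ≤ Q.map φ := by
    refine Ideal.span_le.2 ?_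
    rintro _ ⟨l, hl, rfl⟩
    have hl' : l ≠ jj := fun h => by rw [h] at hl; exact lt_irrefl j hl
    obtain ⟨f, hf⟩ : g l ∈ Set.range φ := by
      rw [mem_range_map_iff_coeffs_subset]
      intro x hx
      obtain ⟨e, -, rfl⟩ := mem_coeffs_iff.1 hx
      exact ⟨⟨_, hin l hl' e⟩, rfl⟩
    rw [← hf]
    refine Ideal.mem_map_of_mem _ ?_
    rw [hQ, Ideal.mem_comap, hf]
    exact hQWle (Ideal.subset_span ⟨l, Nat.lt_succ_of_lt hl, rfl⟩)
  -- lift the chain
  let q : LTSeries (PrimeSpectrum.zeroLocus (R := MvPolynomial (Fin (m + 1)) Ω)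
      (prefixIdeal g j : Set _)) :=
    p.map (fun x => ⟨x.1, show prefixIdeal g j ≤ x.1.asIdeal from hpre.trans x.2⟩) fun x y h => h
  have hlen : ∀ r : LTSeries (PrimeSpectrum.zeroLocus (R := MvPolynomial (Fin (m + 1)) Ω)
      (prefixIdeal g j : Set _)), r.length ≤ m + 1 - j := by
    intro r
    have h1 := Order.LTSeries.length_le_krullDim r
    rw [← ringKrullDim_quotient] at h1
    exact_mod_cast h1.trans hle
  have heq : Q.map φ = QW := by
    by_contra hne
    let a₀ : PrimeSpectrum.zeroLocus (R := MvPolynomial (Fin (m + 1)) Ω)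
        (prefixIdeal g j : Set _) := ⟨⟨Q.map φ, hQP⟩, hpreQ⟩
    have hlt : a₀ < q.head := (lt_of_le_of_ne hQΩle hne : Q.map φ < QW)
    have h1 := hlen (q.cons a₀ hlt)
    rw [RelSeries.cons_length] at h1
    change p.length + 1 ≤ m + 1 - j at h1
    omega
  have hplen : p.length = m + 1 - j := by
    have h1 := hlen q
    change p.length ≤ m + 1 - j at h1
    omega
  have hdimQW : ringKrullDim (MvPolynomial (Fin (m + 1)) Ω ⧸ QW) =
      ((m - j + 1 : ℕ) : WithBot ℕ∞) := by
    rw [ringKrullDim_quotient]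
    refine le_antisymm (iSup_le fun r => ?_) ?_
    · have := hlen (r.map (fun x => ⟨x.1,
        show prefixIdeal g j ≤ x.1.asIdeal from (hpre.trans hQWle).trans x.2⟩) fun x y h => h)
      change r.length ≤ m + 1 - j at this
      exact_mod_cast (by omega : r.length ≤ m - j + 1)
    · have h1 := Order.LTSeries.length_le_krullDim
        ({ length := p.length
           toFun := fun i => ⟨(p i).1, show QW ≤ (p i).1.asIdeal from
             LTSeries.monotone p (Fin.zero_le i)⟩
           step := fun i => p.step i } :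
          LTSeries (PrimeSpectrum.zeroLocus (R := MvPolynomial (Fin (m + 1)) Ω) (QW : Set _)))
      simp only [hplen] at h1
      rwa [show m - j + 1 = m + 1 - j by omega]
  have hcodim := codim_forms_of_prime QW (m - j) j (by omega) hdimQW
  -- express the new form in forms defined over `E`
  set V := CohB1.polyGrading m Ω (j + 1) ⊓ Submodule.restrictScalars Ω QW with hV
  haveI : FiniteDimensional Ω (LefPen.Form m Ω (j + 1)) :=
    Module.Finite.equiv (GenericFibre.coeffEquiv (k := Ω) (n := m) (d := j + 1)).symm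
  haveI : FiniteDimensional Ω V := Submodule.finiteDimensional_of_le inf_le_left
  set S : Set (MvPolynomial (Fin (m + 1)) Ω) :=
    φ '' {f | f ∈ Q ∧ f.IsHomogeneous (j + 1)} with hS
  have hVS : Submodule.span Ω S = V := by
    refine le_antisymm (Submodule.span_le.2 ?_) fun F hF => ?_
    · rintro _ ⟨f, ⟨hf, hfh⟩, rfl⟩
      exact ⟨(mem_homogeneousSubmodule _ _).2 (hfh.map _), hf⟩
    · obtain ⟨r, ω, ρ, hF'⟩ := exists_decomp (E := E) F
      rw [hF']
      refine Submodule.sum_mem _ fun l _ => ?_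
      rw [← smul_eq_C_mul]
      refine Submodule.smul_mem _ _ (Submodule.subset_span ⟨_, ⟨?_, ?_⟩, rfl⟩)
      · exact coordMap_mem (show F ∈ Q.map φ from heq ▸ hF.2) (ρ l)
      · intro e he
        rw [coeff_coordMap] at he
        exact (mem_homogeneousSubmodule _ _).1 hF.1 fun h => he (by rw [h, map_zero])
  obtain ⟨B, hBS, hBspan, hBind⟩ := exists_linearIndependent Ω S
  rw [hVS] at hBspan
  have hBfin : B.Finite := by
    have h0 : ∀ x : B, (x : MvPolynomial (Fin (m + 1)) Ω) ∈ V := fun x => by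
      rw [← hBspan]; exact Submodule.subset_span x.2
    have hBi : LinearIndependent Ω (fun x : B => (⟨x.1, h0 x⟩ : V)) :=
      LinearIndependent.of_comp V.subtype hBind
    exact Set.finite_coe_iff.1 hBi.finite
  haveI := hBfin.fintype
  have hBcard : Fintype.card B = Module.finrank Ω V := by
    rw [← finrank_span_eq_card hBind, Subtype.range_coe_subtype]
    exact congrArg (fun W : Submodule Ω (MvPolynomial (Fin (m + 1)) Ω) => Module.finrank Ω W) hBspan
  have hgV : g jj ∈ Submodule.span Ω (Set.range ((↑) : B → MvPolynomial (Fin (m + 1)) Ω)) := by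
    rw [Subtype.range_coe_subtype]
    show g jj ∈ Submodule.span Ω B
    rw [hBspan]
    refine ⟨(mem_homogeneousSubmodule _ _).2 ?_, hQWle (Ideal.subset_span ⟨jj, ?_, rfl⟩)⟩
    · have := hg jj
      rwa [hdeg] at this
    · exact Nat.lt_succ_self j
  obtain ⟨c, hc⟩ := (Submodule.mem_span_range_iff_exists_fun Ω).1 hgV
  refine ⟨T₁ ∪ Finset.univ.image c, fun x hx => by simp [hT₁, hx], ?_, ?_⟩
  · have hB : Fintype.card B + (m + 1) ≤ Nat.choose (m + deg jj) (deg jj) := by
      have h6 : Module.finrank Ω (LefPen.Form m Ω (j + 1)) = Nat.choose (m + (j + 1)) (j + 1) :=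
        GenericFibre.finrank_form
      have h7 : deg jj = j + 1 := hdeg jj
      have h8 : Fintype.card B = Module.finrank Ω V := hBcard
      rw [h7, ← h6, h8]
      omega
    have h1 := Finset.card_union_le T₁ (Finset.univ.image c)
    have h2 := Finset.card_union_le T₀ ((Finset.univ.erase jj).biUnion coeffs)
    have h3 : ((Finset.univ.erase jj).biUnion coeffs).card ≤
        ∑ l ∈ Finset.univ.erase jj, Nat.choose (m + deg l) (deg l) :=
      Finset.card_biUnion_le.trans (Finset.sum_le_sum fun l _ => hcard l)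
    have h4 : (Finset.univ.image c).card ≤ Fintype.card B := Finset.card_image_le
    rw [← hT₁] at h2
    have h5 := Finset.add_sum_erase Finset.univ (fun l => Nat.choose (m + deg l) (deg l))
      (Finset.mem_univ jj)
    omega
  · intro l e
    have hmono : E ≤ cl k ((T₁ ∪ Finset.univ.image c : Finset Ω) : Set Ω) :=
      cl_mono (by simp)
    rcases eq_or_ne l jj with rfl | hl
    · rw [← hc, coeff_sum]
      refine sum_mem fun b _ => ?_
      rw [coeff_smul, smul_eq_mul]
      refine mul_mem (subset_cl _ (by simp)) (hmono ?_)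
      obtain ⟨f, -, hf⟩ := hBS b.2
      rw [← hf, coeff_map]
      exact (coeff e f).2
    · exact hmono (hin l hl e)

end Bad

end Groth.Agent.GenPt
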