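import Mathlib

/-!
Algebraic independence from weighted initial forms.
-/

open MvPolynomial

namespace Groth.Agent.GenPt

/-- Polynomials with algebraically independent initial forms are algebraically independent. -/
theorem indep_of_initial {k : Type*} [Field k] {κ ι : Type*} [Fintype κ]
    (P L : κ → MvPolynomial ι k) (w : κ → ℕ) (hL : AlgebraicIndependent k L)
    (h : ∀ i, ∃ u : Polynomial (MvPolynomial ι k),
      aeval (fun j => Polynomial.X * Polynomial.C (X j)) (P i) = Polynomial.X ^ w i * u ∧
        u.coeff 0 = L i) :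
    AlgebraicIndependent k P := by
  classical
  choose u hu hu0 using h
  rw [algebraicIndependent_iff]
  intro Q hQ
  by_contra hne
  obtain ⟨r, hr, hmin⟩ : ∃ r, (∃ e, coeff e Q ≠ 0 ∧ ∑ i, w i * e i = r) ∧
      ∀ e, coeff e Q ≠ 0 → r ≤ ∑ i, w i * e i := by
    have hex : ∃ r e, coeff e Q ≠ 0 ∧ ∑ i, w i * e i = r := by
      obtain ⟨e, he⟩ := ne_zero_iff.1 hne
      exact ⟨_, e, he, rfl⟩
    exact ⟨Nat.find hex, Nat.find_spec hex, fun e he => Nat.find_min' hex ⟨e, he, rfl⟩⟩
  have h0 : aeval (fun i => Polynomial.X ^ w i * u i) Q = 0 := by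
    have := congrArg (aeval fun j => (Polynomial.X : Polynomial (MvPolynomial ι k)) *
      Polynomial.C (X j)) hQ
    rw [map_zero, comp_aeval_apply] at this
    simpa only [hu] using this
  let Q' : MvPolynomial κ k := ∑ e ∈ Q.support.filter (fun e => ∑ i, w i * e i = r),
    monomial e (coeff e Q)
  have hc : (aeval (fun i => Polynomial.X ^ w i * u i) Q).coeff r = aeval L Q' := by
    rw [aeval_def, eval₂_eq', Polynomial.finsetSum_coeff, map_sum, Finset.sum_filter]
    refine Finset.sum_congr rfl fun e he => ?_
    have hprod : ∏ i, ((Polynomial.X : Polynomial (MvPolynomial ι k)) ^ w i * u i) ^ e i =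
        Polynomial.X ^ (∑ i, w i * e i) * ∏ i, u i ^ e i := by
      simp only [mul_pow, Finset.prod_mul_distrib, ← pow_mul, Finset.prod_pow_eq_pow_sum]
    rw [hprod, ← mul_assoc, mul_comm _ (Polynomial.X ^ (∑ i, w i * e i)), mul_assoc,
      Polynomial.coeff_X_pow_mul']
    have hle := hmin e (mem_support_iff.1 he)
    rcases eq_or_lt_of_le hle with heq | hlt
    · rw [if_pos (le_of_eq heq.symm), ← heq, Nat.sub_self, if_pos rfl, Polynomial.mul_coeff_zero,
        Polynomial.coeff_zero_prod, aeval_monomial, Finsupp.prod_fintype _ _ (by simp)]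
      refine congrArg₂ (· * ·) ?_ (Finset.prod_congr rfl fun i _ => ?_)
      · exact Polynomial.coeff_C_zero
      · rw [Polynomial.coeff_zero_eq_eval_zero, Polynomial.eval_pow,
          ← Polynomial.coeff_zero_eq_eval_zero, hu0]
    · rw [if_neg (by omega), if_neg (by omega)]
  rw [h0, Polynomial.coeff_zero] at hc
  obtain ⟨e, he, her⟩ := hr
  have hQ' : Q' = 0 := (algebraicIndependent_iff.1 hL) Q' hc.symm
  have h1 := congrArg (coeff e) hQ'
  rw [coeff_sum, Finset.sum_eq_single e, coeff_monomial, if_pos rfl, coeff_zero] at h1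
  · exact he h1
  · intro b _ hb
    rw [coeff_monomial, if_neg hb]
  · intro h
    exact absurd (Finset.mem_filter.2 ⟨mem_support_iff.2 he, her⟩) h

/-- Translating by constants keeps injectivity. -/
theorem injective_aeval_of_translate {k : Type*} [Field k] {κ ι : Type*}
    (P : κ → MvPolynomial ι k) (c : κ → k) (h : AlgebraicIndependent k fun q => P q - C (c q)) :
    Function.Injective (aeval P : MvPolynomial κ k →ₐ[k] MvPolynomial ι k) := by
  have hcomp : (aeval P : MvPolynomial κ k →ₐ[k] MvPolynomial ι k) =
      (aeval fun q => P q - C (c q)).comp (aeval fun q => X q + C (c q)) := by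
    refine algHom_ext fun q => ?_
    rw [AlgHom.comp_apply, aeval_X, aeval_X, map_add, aeval_X, aeval_C]
    exact (sub_add_cancel _ _).symm
  rw [hcomp, AlgHom.coe_comp]
  refine Function.Injective.comp ?_ ?_
  · exact algebraicIndependent_iff_injective_aeval.1 h
  refine Function.LeftInverse.injective (g := aeval fun q => X q - C (c q)) fun F => ?_
  have : (aeval fun q => (X q : MvPolynomial κ k) - C (c q)).comp
      (aeval fun q => X q + C (c q)) = AlgHom.id k _ := algHom_ext fun q => by
    rw [AlgHom.comp_apply, aeval_X, map_add, aeval_X, aeval_C]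
    exact sub_add_cancel _ _
  exact DFunLike.congr_fun this F

/-- As many elements as variables over which the polynomial ring is algebraic are independent. -/
theorem indep_of_isAlgebraic_X {k : Type*} [Field k] {ι : Type*} [Fintype ι]
    (L : ι → MvPolynomial ι k)
    (h : ∀ i, IsAlgebraic (Algebra.adjoin k (Set.range L)) (X i : MvPolynomial ι k)) :
    AlgebraicIndependent k L := by
  haveI : Algebra.IsAlgebraic (Algebra.adjoin k (Set.range L)) (MvPolynomial ι k) := by
    refine ⟨fun F => ?_⟩
    induction F using MvPolynomial.induction_on with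
    | C a =>
      exact isAlgebraic_algebraMap (algebraMap k (Algebra.adjoin k (Set.range L)) a)
    | add p q hp hq => exact hp.add hq
    | mul_X p i hp => exact hp.mul (h i)
  refine (Algebra.IsAlgebraic.isTranscendenceBasis_of_lift_le_trdeg_of_finite (R := k) L ?_).1
  rw [MvPolynomial.trdeg_of_isDomain]
  simp

end Groth.Agent.GenPt
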