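import Groth.Prelude.Def_LefPen
import Groth.Prelude.Def_W4c2ratcurvhypCodim
import Mathlib
import Groth.Agent.GenericFibre.Basic
import Groth.Agent.VarDim.Algebra
import Groth.Agent.GenPt.Count

/-!
Codimension of a locus from a parameter count at its generic points.
-/

open MvPolynomial

universe u

namespace Groth.Agent.GenPt

variable {k : Type u} [Field k] {V : Type u} [AddCommGroup V] [Module k V]

/-- A set of `k`-points of the coordinate ring detecting every nonzero function. -/
def Dense {A : Type u} [CommRing A] [Algebra k A] (S : Set (A →ₐ[k] k)) : Prop :=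
  ∀ a : A, a ≠ 0 → ∃ φ ∈ S, φ a ≠ 0

theorem exists_dense {κ : Type*} [Fintype κ] (D : Set (κ → k)) (I P : Ideal (MvPolynomial κ k))
    (hI : ∀ f, f ∈ I ↔ ∀ v ∈ D, eval v f = 0) (hP : P ∈ I.minimalPrimes) :
    ∀ f ∉ P, ∃ v ∈ D, eval v f ≠ 0 ∧ ∀ x ∈ P, eval v x = 0 := by
  classical
  intro f hf
  have hfin := Ideal.finite_minimalPrimes_of_isNoetherianRing (MvPolynomial κ k) I
  have hchoose : ∀ Q ∈ hfin.toFinset.erase P, ∃ b, b ∈ Q ∧ b ∉ P := by
    intro Q hQ
    obtain ⟨hne, hQ⟩ := Finset.mem_erase.1 hQ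
    rw [hfin.mem_toFinset] at hQ
    by_contra h
    push Not at h
    exact hne (le_antisymm h (hP.2 hQ.1 h))
  choose! b hbQ hbP using hchoose
  set B := ∏ Q ∈ hfin.toFinset.erase P, b Q with hB
  have hBP : B ∉ P := fun h => by
    obtain ⟨Q, hQ, hbad⟩ := (hP.1.1.prod_mem_iff).1 h
    exact hbP Q hQ hbad
  have hfB : f * B ∉ I := fun h => (hP.1.1.mem_or_mem (hP.1.2 h)).elim hf hBP
  rw [hI] at hfB
  push Not at hfB
  obtain ⟨v, hv, hne⟩ := hfB
  rw [map_mul] at hne
  refine ⟨v, hv, left_ne_zero_of_mul hne, fun x hx => ?_⟩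
  have hrad : x * B ∈ I.radical := by
    rw [← Ideal.sInf_minimalPrimes, Submodule.mem_sInf]
    intro Q hQ
    rcases eq_or_ne Q P with rfl | hne'
    · exact Ideal.mul_mem_right _ _ hx
    · refine Ideal.mul_mem_left _ _ ?_
      have hQ' : Q ∈ hfin.toFinset.erase P := Finset.mem_erase.2 ⟨hne', hfin.mem_toFinset.2 hQ⟩
      rw [hB, ← Finset.mul_prod_erase _ _ hQ']
      exact Ideal.mul_mem_right _ _ (hbQ Q hQ')
  obtain ⟨n, hn⟩ := hrad
  have h0 := (hI _).1 hn v hv
  rw [map_pow, map_mul] at h0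
  exact (mul_eq_zero.1 (eq_zero_of_pow_eq_zero h0)).resolve_right (right_ne_zero_of_mul hne)

set_option maxHeartbeats 1000000 in
/-- The codimension criterion. -/
theorem codimGE_of_generic [Infinite k] {κ : Type} [Fintype κ] (e : V ≃ₗ[k] (κ → k)) (D : Set V)
    (c : ℕ)
    (h : ∀ (A : Type u) [CommRing A] [IsDomain A] [Algebra k A] (x : κ → A) (S : Set (A →ₐ[k] k)),
      Dense S → (∀ φ ∈ S, e.symm (fun i => φ (x i)) ∈ D) →
      ∀ (Ω : Type u) [Field Ω] [Algebra k Ω] [IsAlgClosed Ω] (j : A →ₐ[k] Ω), Function.Injective j →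
        ∃ T : Finset Ω, T.card + c ≤ Fintype.card κ ∧ ∀ i, j (x i) ∈ cl k (T : Set Ω)) :
    LefPen.CodimGE k D c := by
  classical
  have hmem : ∀ F : MvPolynomial κ k,
      (fun v : V => eval (e v) F) ∈ LefPen.polyFunAlg k V := fun F =>
    GenericFibre.isPolyFun_eval (fun i => (LinearMap.proj i).comp e.toLinearMap) F
  let Φ : MvPolynomial κ k →+* LefPen.polyFunAlg k V :=
    { toFun := fun F => ⟨fun v => eval (e v) F, hmem F⟩
      map_one' := Subtype.ext (funext fun v => map_one _)
      map_mul' := fun F G => Subtype.ext (funext fun v => map_mul _ _ _)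
      map_zero' := Subtype.ext (funext fun v => map_zero _)
      map_add' := fun F G => Subtype.ext (funext fun v => map_add _ _ _) }
  have hbij : Function.Bijective Φ := by
    refine ⟨fun F G hFG => MvPolynomial.funext fun y => ?_, fun f => ?_⟩
    · have := congrFun (congrArg Subtype.val hFG) (e.symm y)
      simpa [Φ] using this
    · let b : Module.Basis κ k V := Module.Basis.ofEquivFun e
      obtain ⟨F, hF⟩ := GenericFibre.exists_eval_eq b f.2
      refine ⟨F, Subtype.ext (funext fun v => ?_)⟩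
      have hb : (fun j => b.repr v j) = e v := funext fun j => by simp [b]
      rw [hF v, hb]
      rfl
  let Ψ := RingEquiv.ofBijective Φ hbij
  rw [LefPen.CodimGE, ← Ψ.height_comap, Ideal.height_eq_inf_minimalPrimes]
  refine le_iInf₂ fun P hP => ?_
  haveI := hP.1.1
  have hval : ∀ (f : MvPolynomial κ k) (v : V), (Ψ f).1 v = eval (e v) f := fun f v => rfl
  have hdense := exists_dense (e '' D) _ P (fun f => by
    rw [Ideal.mem_comap]
    show (∀ v ∈ D, (Ψ f).1 v = 0) ↔ _
    simp only [hval, Set.forall_mem_image]) hP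
  set A := MvPolynomial κ k ⧸ P
  let x : κ → A := fun i => Ideal.Quotient.mk P (X i)
  let S : Set (A →ₐ[k] k) := {φ | e.symm (fun i => φ (x i)) ∈ D}
  have hS : Dense S := by
    intro a ha
    obtain ⟨f, rfl⟩ := Ideal.Quotient.mk_surjective a
    obtain ⟨v, ⟨w, hw, rfl⟩, hvf, hvP⟩ := hdense f (fun h => ha (Ideal.Quotient.eq_zero_iff_mem.2 h))
    let φ : A →ₐ[k] k := Ideal.Quotient.liftₐ P (aeval (e w)) fun y hy => by
      simpa [aeval_eq_eval] using hvP y hy
    have hae : ∀ g : MvPolynomial κ k, aeval (e w) g = eval (e w) g := fun g => by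
      rw [MvPolynomial.aeval_def, MvPolynomial.eval₂_eq_eval_map]
      simp
    have hφ : ∀ g, φ (Ideal.Quotient.mk P g) = eval (e w) g := by
      intro g
      rw [← hae]
      exact Ideal.Quotient.lift_mk (I := P) (aeval (e w) : MvPolynomial κ k →ₐ[k] k).toRingHom _
    refine ⟨φ, ?_, ?_⟩
    · show e.symm (fun i => φ (x i)) ∈ D
      have hxe : (fun i => φ (x i)) = e w := by
        funext i
        have h1 := hφ (X i)
        rw [eval_X] at h1
        exact h1
      rw [hxe, LinearEquiv.symm_apply_apply]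
      exact hw
    · rw [hφ]
      exact hvf
  haveI : Algebra.FiniteType k A :=
    Algebra.FiniteType.of_surjective (Ideal.Quotient.mkₐ k P) Ideal.Quotient.mk_surjective
  let Ω := AlgebraicClosure (FractionRing A)
  let j : A →ₐ[k] Ω := IsScalarTower.toAlgHom k A Ω
  have hj : Function.Injective j := by
    intro a b hab
    apply IsFractionRing.injective A (FractionRing A)
    apply (algebraMap (FractionRing A) Ω).injective
    simpa [j, IsScalarTower.algebraMap_apply A (FractionRing A) Ω] using hab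
  obtain ⟨T, hT, hTx⟩ := h A x S hS (fun φ hφ => hφ) Ω j hj
  have hall : ∀ a, j a ∈ cl k (T : Set Ω) := by
    intro a
    obtain ⟨f, rfl⟩ := Ideal.Quotient.mk_surjective a
    induction f using MvPolynomial.induction_on with
    | C r =>
      have : Ideal.Quotient.mk P (C r) = algebraMap k A r := rfl
      rw [this, AlgHom.commutes]
      exact IntermediateField.algebraMap_mem _ r
    | add p q hp hq => rw [map_add, map_add]; exact add_mem hp hq
    | mul_X p i hp => rw [map_mul, map_mul]; exact mul_mem hp (hTx i)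
  have htr := trdeg_le_of_mem_cl j hj T hall
  obtain ⟨n, hn, hn2, -⟩ := VarDim.exists_ringKrullDim_eq_trdeg k A
  have h1 := VarDim.ringKrullDim_quotient_add_height k (MvPolynomial κ k) P
  rw [MvPolynomial.ringKrullDim_of_isNoetherianRing, ringKrullDim_eq_zero_of_field, hn] at h1
  rw [hn2] at htr
  have hnT : n ≤ T.card := by exact_mod_cast htr
  obtain ⟨q, hq⟩ := ENat.ne_top_iff_exists.mp (P.height_ne_top hP.1.1.ne_top)
  rw [← hq] at h1 ⊢
  have h2 : n + q = Fintype.card κ := by
    rw [← Nat.card_eq_fintype_card]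
    have h3 : ((n + q : ℕ) : WithBot ℕ∞) = ((Nat.card κ : ℕ) : WithBot ℕ∞) := by
      rw [Nat.cast_add]
      exact h1.trans (zero_add _)
    exact_mod_cast h3
  exact_mod_cast (by omega : c ≤ q)

/-- A set of `k`-points whose generic points have few independent coordinates among the first
block satisfies an equation in that block. -/
theorem exists_eq_of_generic {κ₁ κ₂ : Type} [Fintype κ₁] [Fintype κ₂] (D : Set (κ₁ ⊕ κ₂ → k))
    (h : ∀ (A : Type u) [CommRing A] [IsDomain A] [Algebra k A] (x : κ₁ ⊕ κ₂ → A)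
      (S : Set (A →ₐ[k] k)), Dense S → (∀ φ ∈ S, (fun i => φ (x i)) ∈ D) →
      ∀ (Ω : Type u) [Field Ω] [Algebra k Ω] [IsAlgClosed Ω] (j : A →ₐ[k] Ω), Function.Injective j →
        ∃ T : Finset Ω, T.card < Fintype.card κ₁ ∧ ∀ i, j (x (Sum.inl i)) ∈ cl k (T : Set Ω)) :
    ∃ Q : MvPolynomial κ₁ k, Q ≠ 0 ∧ ∀ v ∈ D, eval (fun i => v (Sum.inl i)) Q = 0 := by
  classical
  let I : Ideal (MvPolynomial (κ₁ ⊕ κ₂) k) :=
    { carrier := {f | ∀ v ∈ D, eval v f = 0}
      zero_mem' := fun v _ => map_zero _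
      add_mem' := fun {f g} hf hg v hv => by rw [map_add, hf v hv, hg v hv, add_zero]
      smul_mem' := fun c f hf v hv => by rw [smul_eq_mul, map_mul, hf v hv, mul_zero] }
  have hfin := Ideal.finite_minimalPrimes_of_isNoetherianRing (MvPolynomial (κ₁ ⊕ κ₂) k) I
  have hP : ∀ P ∈ hfin.toFinset, ∃ Q : MvPolynomial κ₁ k, Q ≠ 0 ∧ rename Sum.inl Q ∈ P := by
    intro P hP
    rw [hfin.mem_toFinset] at hP
    haveI := hP.1.1
    have hdense := exists_dense D I P (fun f => Iff.rfl) hP
    let x : κ₁ ⊕ κ₂ → MvPolynomial (κ₁ ⊕ κ₂) k ⧸ P := fun i => Ideal.Quotient.mk P (X i)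
    let S : Set ((MvPolynomial (κ₁ ⊕ κ₂) k ⧸ P) →ₐ[k] k) := {φ | (fun i => φ (x i)) ∈ D}
    have hS : Dense S := by
      intro a ha
      obtain ⟨f, rfl⟩ := Ideal.Quotient.mk_surjective a
      obtain ⟨v, hv, hvf, hvP⟩ := hdense f (fun h => ha (Ideal.Quotient.eq_zero_iff_mem.2 h))
      have hae : ∀ g : MvPolynomial (κ₁ ⊕ κ₂) k, aeval v g = eval v g := fun g => by
        rw [MvPolynomial.aeval_def, MvPolynomial.eval₂_eq_eval_map]
        simp
      let φ : (MvPolynomial (κ₁ ⊕ κ₂) k ⧸ P) →ₐ[k] k :=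
        Ideal.Quotient.liftₐ P (aeval v) fun y hy => by rw [hae]; exact hvP y hy
      have hφ : ∀ g, φ (Ideal.Quotient.mk P g) = eval v g := by
        intro g
        rw [← hae]
        exact Ideal.Quotient.lift_mk (I := P) (aeval v : MvPolynomial (κ₁ ⊕ κ₂) k →ₐ[k] k).toRingHom _
      refine ⟨φ, ?_, ?_⟩
      · show (fun i => φ (x i)) ∈ D
        have hxe : (fun i => φ (x i)) = v := by
          funext i
          have h1 := hφ (X i)
          rw [eval_X] at h1
          exact h1
        rw [hxe]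
        exact hv
      · rw [hφ]
        exact hvf
    let Ω := AlgebraicClosure (FractionRing (MvPolynomial (κ₁ ⊕ κ₂) k ⧸ P))
    let j : (MvPolynomial (κ₁ ⊕ κ₂) k ⧸ P) →ₐ[k] Ω := IsScalarTower.toAlgHom k _ Ω
    have hj : Function.Injective j := by
      intro a b hab
      apply IsFractionRing.injective (MvPolynomial (κ₁ ⊕ κ₂) k ⧸ P)
        (FractionRing (MvPolynomial (κ₁ ⊕ κ₂) k ⧸ P))
      apply (algebraMap (FractionRing (MvPolynomial (κ₁ ⊕ κ₂) k ⧸ P)) Ω).injective
      simpa [j, IsScalarTower.algebraMap_apply (MvPolynomial (κ₁ ⊕ κ₂) k ⧸ P)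
        (FractionRing (MvPolynomial (κ₁ ⊕ κ₂) k ⧸ P)) Ω] using hab
    obtain ⟨T, hT, hTx⟩ := h _ x S hS (fun φ hφ => hφ) Ω j hj
    by_contra hno
    push Not at hno
    let g : MvPolynomial κ₁ k →ₐ[k] MvPolynomial (κ₁ ⊕ κ₂) k ⧸ P :=
      (Ideal.Quotient.mkₐ k P).comp (rename Sum.inl)
    have hinj : Function.Injective g := by
      rw [injective_iff_map_eq_zero]
      intro q hq
      by_contra hq0
      exact hno q hq0 (Ideal.Quotient.eq_zero_iff_mem.1 hq)
    have hall : ∀ q, (j.comp g) q ∈ cl k (T : Set Ω) := by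
      intro q
      induction q using MvPolynomial.induction_on with
      | C r =>
        rw [← MvPolynomial.algebraMap_eq, AlgHom.commutes]
        exact IntermediateField.algebraMap_mem _ r
      | add p q hp hq => rw [map_add]; exact add_mem hp hq
      | mul_X p i hp =>
        rw [map_mul]
        refine mul_mem hp ?_
        have : g (X i) = x (Sum.inl i) := by simp [g, x]
        rw [AlgHom.comp_apply, this]
        exact hTx i
    have htr := trdeg_le_of_mem_cl (j.comp g) (hj.comp hinj) T hall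
    rw [MvPolynomial.trdeg_of_isDomain, Cardinal.mk_fintype] at htr
    simp at htr
    omega
  choose! Q hQ0 hQP using hP
  refine ⟨∏ P ∈ hfin.toFinset, Q P, Finset.prod_ne_zero_iff.2 hQ0, fun v hv => ?_⟩
  have hmem : rename Sum.inl (∏ P ∈ hfin.toFinset, Q P) ∈ I.radical := by
    rw [← Ideal.sInf_minimalPrimes, Submodule.mem_sInf]
    intro P hP
    rw [map_prod, ← Finset.mul_prod_erase _ _ (hfin.mem_toFinset.2 hP)]
    exact Ideal.mul_mem_right _ _ (hQP P (hfin.mem_toFinset.2 hP))
  obtain ⟨n, hn⟩ := hmem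
  have h0 := hn v hv
  rw [map_pow] at h0
  have h1 := eq_zero_of_pow_eq_zero h0
  rwa [eval_rename] at h1

/-- Finitely many elements generating a ring of dimension at most `r` are algebraic over `r` of
them. -/
theorem exists_basis_cl {Ω : Type u} [Field Ω] [Algebra k Ω] {σ : Type} [Fintype σ] (u : σ → Ω)
    {r : ℕ} (I : Ideal (MvPolynomial σ k)) (hI : ∀ f ∈ I, aeval u f = 0)
    (hdim : ringKrullDim (MvPolynomial σ k ⧸ I) ≤ (r : WithBot ℕ∞)) :
    ∃ T : Finset Ω, T.card ≤ r ∧ ∀ i, u i ∈ cl k (T : Set Ω) := by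
  classical
  set P : Ideal (MvPolynomial σ k) := RingHom.ker (aeval u : MvPolynomial σ k →ₐ[k] Ω) with hP
  haveI : P.IsPrime := RingHom.ker_isPrime _
  haveI : Algebra.FiniteType k (MvPolynomial σ k ⧸ P) :=
    Algebra.FiniteType.of_surjective (Ideal.Quotient.mkₐ k P) Ideal.Quotient.mk_surjective
  obtain ⟨n, hn, hn2, -⟩ := VarDim.exists_ringKrullDim_eq_trdeg k (MvPolynomial σ k ⧸ P)
  have hle := (ringKrullDim_le_of_surjective (Ideal.Quotient.factor (show I ≤ P from hI))
    (Ideal.Quotient.factor_surjective _)).trans hdim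
  rw [hn] at hle
  have hnr : n ≤ r := by exact_mod_cast hle
  set xb : σ → MvPolynomial σ k ⧸ P := fun i => Ideal.Quotient.mk P (X i) with hxb
  have hgen : Algebra.adjoin k (Set.range xb) = ⊤ := by
    have h1 : xb = (Ideal.Quotient.mkₐ k P) ∘ X := rfl
    rw [h1, Set.range_comp, ← AlgHom.map_adjoin, MvPolynomial.adjoin_range_X, Algebra.map_top,
      AlgHom.range_eq_top]
    exact Ideal.Quotient.mk_surjective
  haveI : Algebra.IsAlgebraic (Algebra.adjoin k (Set.range xb)) (MvPolynomial σ k ⧸ P) := by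
    refine ⟨fun a => ?_⟩
    have : a ∈ Algebra.adjoin k (Set.range xb) := by rw [hgen]; trivial
    exact isAlgebraic_algebraMap (⟨a, this⟩ : Algebra.adjoin k (Set.range xb))
  obtain ⟨t, ht, htb⟩ := exists_isTranscendenceBasis_subset (R := k) (Set.range xb)
  haveI : Finite t := ((Set.finite_range xb).subset ht).to_subtype
  haveI : Fintype t := Fintype.ofFinite t
  have hcard : Fintype.card t = n := by
    have := htb.cardinalMk_eq_trdeg
    rw [hn2, Cardinal.mk_fintype] at this
    exact_mod_cast this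
  let jb : (MvPolynomial σ k ⧸ P) →ₐ[k] Ω := Ideal.Quotient.liftₐ P (aeval u) fun a ha => ha
  have hjb : Function.Injective jb := by
    rw [injective_iff_map_eq_zero]
    intro a ha
    obtain ⟨f, rfl⟩ := Ideal.Quotient.mk_surjective a
    exact Ideal.Quotient.eq_zero_iff_mem.2 ha
  refine ⟨(Finset.univ : Finset t).image fun a => jb a.1, ?_, fun i => ?_⟩
  · exact (Finset.card_image_le.trans (le_of_eq hcard)).trans hnr
  · have halg := htb.isAlgebraic.isAlgebraic (xb i)
    rw [mem_cl, IntermediateField.isAlgebraic_adjoin_iff]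
    have hmap : (Algebra.adjoin k (Set.range fun a : t => a.1)).map jb = Algebra.adjoin k
        (((Finset.univ : Finset t).image fun a => jb a.1 : Finset Ω) : Set Ω) := by
      rw [AlgHom.map_adjoin]
      congr 1
      ext y
      simp
    let e : Algebra.adjoin k (Set.range fun a : t => a.1) →+* Algebra.adjoin k
        (((Finset.univ : Finset t).image fun a => jb a.1 : Finset Ω) : Set Ω) :=
      { toFun := fun y => ⟨jb y.1, hmap ▸ Subalgebra.mem_map.2 ⟨y.1, y.2, rfl⟩⟩
        map_one' := Subtype.ext (map_one jb)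
        map_mul' := fun _ _ => Subtype.ext (map_mul jb _ _)
        map_zero' := Subtype.ext (map_zero jb)
        map_add' := fun _ _ => Subtype.ext (map_add jb _ _) }
    have hje : Function.Injective e := fun a b hab =>
      Subtype.ext (hjb (congrArg Subtype.val hab))
    have := halg.ringHom_of_comp_eq e jb.toRingHom hje rfl
    have hu : jb (xb i) = u i := aeval_X u i
    rw [← hu]
    exact this


end Groth.Agent.GenPt
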