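import Groth.Prelude.Def_LefPen
import Groth.Prelude.Def_W4c2ratcurvhypCodim
import Mathlib
import Groth.Agent.GenericFibre.Basic
import Groth.Agent.GenericFibre.Forms
import Groth.Agent.GenericFibre.Sing
import Groth.Agent.GenPt.Locus
import Groth.Agent.GenPt.Transfer

/-!
Lines through a point of a hypersurface: Taylor forms along a chart vector and their parameter count.
-/

open MvPolynomial

universe u

namespace Groth.Agent.GenPt

variable {R S : Type*} [CommRing R] [CommRing S] {m d : ℕ}

/-- The substitution sending `e₀` to the chart vector `(1; v)` at position `i`. -/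
noncomputable def chartSub (i : Fin (m + 2)) (v : Fin (m + 1) → R) :
    Fin (m + 2) → MvPolynomial (Fin (m + 2)) R :=
  i.insertNth (X 0) fun l => C (v l) * X 0 + X l.succ

/-- The inverse substitution. -/
noncomputable def chartInv (i : Fin (m + 2)) (v : Fin (m + 1) → R) :
    Fin (m + 2) → MvPolynomial (Fin (m + 2)) R :=
  Fin.cons (X i) fun l => X (i.succAbove l) - C (v l) * X i

theorem chartInv_chartSub (i : Fin (m + 2)) (v : Fin (m + 1) → R)
    (F : MvPolynomial (Fin (m + 2)) R) : aeval (chartInv i v) (aeval (chartSub i v) F) = F := by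
  have : (aeval (chartInv i v)).comp (aeval (chartSub i v)) =
      AlgHom.id R (MvPolynomial (Fin (m + 2)) R) := by
    refine algHom_ext fun l => ?_
    refine Fin.succAboveCases i ?_ (fun l => ?_) l <;>
      simp [chartSub, chartInv, aeval_X, Fin.cons_zero, Fin.cons_succ]
  exact DFunLike.congr_fun this F

/-- The Taylor forms at the chart vector. -/
noncomputable def taylor (i : Fin (m + 2)) (v : Fin (m + 1) → R) (F : MvPolynomial (Fin (m + 2)) R)
    (l : Fin d) : MvPolynomial (Fin (m + 1)) R :=
  (finSuccEquiv R (m + 1) (aeval (chartSub i v) F)).coeff (d - (l.1 + 1))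

theorem isHomogeneous_chartSub (i : Fin (m + 2)) (v : Fin (m + 1) → R)
    {F : MvPolynomial (Fin (m + 2)) R} (hF : F.IsHomogeneous d) :
    (aeval (chartSub i v) F).IsHomogeneous d := by
  have h := hF.aeval (g := chartSub i v) (n := 1) fun l => by
    refine Fin.succAboveCases i ?_ (fun l => ?_) l
    · simpa [chartSub] using isHomogeneous_X R (0 : Fin (m + 2))
    · simpa [chartSub] using
        ((isHomogeneous_X R (0 : Fin (m + 2))).C_mul (v l)).add (isHomogeneous_X R l.succ)
  rwa [one_mul] at h

theorem isHomogeneous_taylor (i : Fin (m + 2)) (v : Fin (m + 1) → R)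
    {F : MvPolynomial (Fin (m + 2)) R} (hF : F.IsHomogeneous d) (l : Fin d) :
    (taylor i v F l).IsHomogeneous (l.1 + 1) :=
  (isHomogeneous_chartSub i v hF).finSuccEquiv_coeff_isHomogeneous _ _ (by omega)

theorem map_chartSub (φ : R →+* S) (i : Fin (m + 2)) (v : Fin (m + 1) → R)
    (F : MvPolynomial (Fin (m + 2)) R) :
    map φ (aeval (chartSub i v) F) = aeval (chartSub i fun l => φ (v l)) (map φ F) := by
  rw [GenericFibre.map_aeval_eq]
  congr 2
  funext l
  refine Fin.succAboveCases i ?_ (fun l => ?_) l <;> simp [chartSub]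

theorem map_taylor (φ : R →+* S) (i : Fin (m + 2)) (v : Fin (m + 1) → R)
    (F : MvPolynomial (Fin (m + 2)) R) (l : Fin d) :
    map φ (taylor i v F l) = taylor i (fun l => φ (v l)) (map φ F) l := by
  ext e
  simp only [taylor, coeff_map, finSuccEquiv_coeff_coeff, ← map_chartSub, coeff_map]

theorem eval_aeval' {σ τ : Type*} (y : τ → R) (L : σ → MvPolynomial τ R) (G : MvPolynomial σ R) :
    eval y (aeval L G) = eval (fun a => eval y (L a)) G := by
  induction G using MvPolynomial.induction_on with
  | C a => simp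
  | add p q hp hq => simp only [map_add, hp, hq]
  | mul_X p j hp => simp only [map_mul, hp, aeval_X, eval_X]

theorem eval_smul_zero {σ : Type*} {F : MvPolynomial σ R} (hF : F.IsHomogeneous d) (c : R)
    {v : σ → R} (h : eval v F = 0) : eval (c • v) F = 0 := by
  classical
  have : eval (c • v) F = c ^ d * eval v F := by
    rw [eval_eq, eval_eq, Finset.mul_sum]
    refine Finset.sum_congr rfl fun e he => ?_
    have hd : e.degree = d := by
      by_contra h'
      exact (mem_support_iff.1 he) (hF.coeff_eq_zero h')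
    simp only [Pi.smul_apply, smul_eq_mul, mul_pow, Finset.prod_mul_distrib, Finset.prod_pow_eq_pow_sum]
    rw [show ∑ i ∈ e.support, e i = d from by rw [← hd, Finsupp.degree_apply]]
    ring
  rw [this, h, mul_zero]

/-- The coefficient of `X₀^d` is the value at the chart vector. -/
theorem coeff_top {K : Type u} [Field K] (i : Fin (m + 2)) (v : Fin (m + 1) → K)
    {F : MvPolynomial (Fin (m + 2)) K} (hF : F.IsHomogeneous d) :
    coeff (Finsupp.single 0 d) (aeval (chartSub i v) F) = eval (i.insertNth 1 v) F := by
  rw [← GenericFibre.eval_single (isHomogeneous_chartSub i v hF)]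
  rw [eval_aeval']
  congr 2
  funext l
  refine Fin.succAboveCases i ?_ (fun l => ?_) l <;> simp [chartSub, Fin.succ_ne_zero]

/-- A form is determined over `E` by its value and Taylor forms at a chart vector over `E`. -/
theorem coeff_mem {K : Type u} [Field K] {k : Type u} [Field k] [Algebra k K]
    (E : IntermediateField k K) (i : Fin (m + 2)) (v : Fin (m + 1) → K) (hv : ∀ l, v l ∈ E)
    {F : MvPolynomial (Fin (m + 2)) K} (hF : F.IsHomogeneous d)
    (h0 : eval (i.insertNth 1 v) F = 0) (hG : ∀ (l : Fin d) e, coeff e (taylor i v F l) ∈ E)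
    (e : Fin (m + 2) →₀ ℕ) : coeff e F ∈ E := by
  have hsub : ∀ e, coeff e (aeval (chartSub i v) F) ∈ E := by
    intro e
    by_cases he : e.degree = d
    · have hdeg : e 0 + e.tail.degree = d := by
        rw [← he]
        conv_rhs => rw [← Finsupp.cons_tail e]
        simp [Finsupp.degree_eq_sum, Fin.sum_univ_succ, Finsupp.tail_apply]
      rcases Nat.eq_zero_or_pos e.tail.degree with h | h
      · have : e = Finsupp.single 0 d := by
          rw [← Finsupp.cons_tail e, show e.tail = 0 from (Finsupp.degree_eq_zero_iff _).1 h]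
          ext a
          refine Fin.cases ?_ (fun a => ?_) a <;> simp [← hdeg, h, Fin.succ_ne_zero]
        rw [this, coeff_top i v hF, h0]
        exact E.zero_mem
      · have := hG ⟨e.tail.degree - 1, by omega⟩ e.tail
        rw [taylor, finSuccEquiv_coeff_coeff] at this
        have heq : d - (e.tail.degree - 1 + 1) = e 0 := by omega
        simp only [heq, Finsupp.cons_tail] at this
        exact this
    · rw [(isHomogeneous_chartSub i v hF).coeff_eq_zero he]
      exact E.zero_mem
  let φ : E →+* K := algebraMap E K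
  obtain ⟨F', hF'⟩ : aeval (chartSub i v) F ∈ Set.range (map φ) := by
    rw [mem_range_map_iff_coeffs_subset]
    intro x hx
    obtain ⟨e, -, rfl⟩ := mem_coeffs_iff.1 hx
    exact ⟨⟨_, hsub e⟩, rfl⟩
  have := chartInv_chartSub i v F
  rw [← hF', show aeval (chartInv i v) (map φ F') =
    map φ (aeval (chartInv i fun l => (⟨v l, hv l⟩ : E)) F') from ?_] at this
  · rw [← this, coeff_map]
    exact (coeff e ((aeval (chartInv i fun l => (⟨v l, hv l⟩ : E))) F')).2
  · rw [GenericFibre.map_aeval_eq]
    congr 2
    funext l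
    refine Fin.cases ?_ (fun l => ?_) l
    · simp [chartInv]
    · simp only [chartInv, Fin.cons_succ, map_sub, map_mul, map_C, map_X]
      rfl

theorem sum_choose (m d : ℕ) :
    (∑ l : Fin d, Nat.choose (m + (l.1 + 1)) (l.1 + 1)) + 1 = Nat.choose (m + 1 + d) d := by
  induction d with
  | zero => simp
  | succ d ih =>
    rw [Fin.sum_univ_castSucc]
    simp only [Fin.val_castSucc, Fin.val_last]
    rw [show m + 1 + (d + 1) = (m + 1 + d) + 1 by omega, Nat.choose_succ_succ',
      show m + (d + 1) = m + 1 + d by omega]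
    omega

section Cone

variable {k : Type u} [Field k] [Infinite k]

/-- Properly cut Taylor forms give a cone of lines of codimension `d`. -/
theorem codimGE_cone (hdm : d ≤ m) (i : Fin (m + 2)) (v : Fin (m + 1) → k)
    {F : MvPolynomial (Fin (m + 2)) k}
    (hdim : ringKrullDim (MvPolynomial (Fin (m + 1)) k ⧸
        Ideal.span (Set.range (taylor (d := d) i v F))) ≤ ((m + 1 - d : ℕ) : WithBot ℕ∞)) :
    LefPen.CodimGE k {w : Fin (m + 2) → k |
      ∀ s t : k, eval (s • (i.insertNth 1 v : Fin (m + 2) → k) + t • w) F = 0} d := by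
  classical
  refine codimGE_of_generic (LinearEquiv.refl k (Fin (m + 2) → k)) _ d ?_
  intro A _ _ _ x S hS hD Ω _ _ _ j hj
  let u : Fin (m + 1) → A := fun l => x (i.succAbove l) - algebraMap k A (v l) * x i
  -- the Taylor forms vanish at `u`
  have hzero : ∀ l : Fin d, aeval u (taylor i v F l) = 0 := by
    intro l
    by_contra hne
    obtain ⟨φ, hφS, hφ⟩ := hS _ hne
    apply hφ
    have hw := hD φ hφS
    simp only [Set.mem_setOf_eq, LinearEquiv.refl_symm, LinearEquiv.refl_apply] at hw
    set w : Fin (m + 2) → k := fun a => φ (x a) with hwdef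
    have hu : (fun l => φ (u l)) = fun l => w (i.succAbove l) - v l * w i := funext fun l => by
      simp [u, hwdef]
    rw [comp_aeval_apply, hu]
    set u' : Fin (m + 1) → k := fun l => w (i.succAbove l) - v l * w i with hu'
    have hpoly : Polynomial.map (eval u') (finSuccEquiv k (m + 1) (aeval (chartSub i v) F)) = 0 := by
      refine Polynomial.funext fun s => ?_
      rw [Polynomial.eval_zero, ← eval_eq_eval_mv_eval', eval_aeval']
      have := hw (s - w i) 1
      refine Eq.trans ?_ this
      have hfun : (fun a => eval (Fin.cons s u') (chartSub i v a)) =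
          (s - w i) • (i.insertNth 1 v : Fin (m + 2) → k) + (1 : k) • w := by
        funext a
        refine Fin.succAboveCases i ?_ (fun a => ?_) a
        · simp [chartSub]
        · simp [chartSub, hu']
          ring
      rw [hfun]
    have := congrArg (fun p => Polynomial.coeff p (d - (l.1 + 1))) hpoly
    simp only [Polynomial.coeff_map, Polynomial.coeff_zero] at this
    simpa [taylor, eval₂Hom, eval₂_eq_eval_map] using this
  obtain ⟨T, hT, hTu⟩ := exists_basis_cl (fun l => j (u l))
    (Ideal.span (Set.range (taylor (d := d) i v F))) (fun f hf => by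
      induction hf using Submodule.span_induction with
      | mem f hf =>
        obtain ⟨l, rfl⟩ := hf
        rw [← comp_aeval_apply, hzero l, map_zero]
      | zero => simp
      | add a b _ _ ha hb => simp [ha, hb]
      | smul c a _ ha => simp [ha]) hdim
  refine ⟨insert (j (x i)) T, ?_, fun a => ?_⟩
  · have := Finset.card_insert_le (j (x i)) T
    simp
    omega
  · have hmono : cl k (T : Set Ω) ≤ cl k ((insert (j (x i)) T : Finset Ω) : Set Ω) :=
      cl_mono (by simp)
    have hxi : j (x i) ∈ cl k ((insert (j (x i)) T : Finset Ω) : Set Ω) :=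
      subset_cl _ (by simp)
    refine Fin.succAboveCases i hxi (fun a => ?_) a
    have h1 := hmono (hTu a)
    have h2 : j (x (i.succAbove a)) = j (u a) + algebraMap k Ω (v a) * j (x i) := by
      simp [u]
    rw [h2]
    exact add_mem h1 (mul_mem (IntermediateField.algebraMap_mem _ _) hxi)

/-- The chart count. -/
theorem exists_eq_chart (hdm : d ≤ m) (i : Fin (m + 2)) :
    ∃ Q : MvPolynomial (GenericFibre.Mon (m + 1) d) k, Q ≠ 0 ∧
      ∀ (Φ : LefPen.Form (m + 1) k d) (v : Fin (m + 1) → k),
        eval (GenericFibre.coeffEquiv k (m + 1) d Φ) Q ≠ 0 →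
        eval (i.insertNth 1 v) Φ.1 = 0 →
        ringKrullDim (MvPolynomial (Fin (m + 1)) k ⧸
          Ideal.span (Set.range (taylor (d := d) i v Φ.1))) ≤ ((m + 1 - d : ℕ) : WithBot ℕ∞) := by
  classical
  let form : (GenericFibre.Mon (m + 1) d ⊕ Fin (m + 1) → k) → MvPolynomial (Fin (m + 2)) k :=
    fun c => ∑ q, monomial q.1 (c (Sum.inl q))
  let D : Set (GenericFibre.Mon (m + 1) d ⊕ Fin (m + 1) → k) :=
    {c | eval (i.insertNth 1 fun l => c (Sum.inr l)) (form c) = 0 ∧
      ¬ ringKrullDim (MvPolynomial (Fin (m + 1)) k ⧸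
        Ideal.span (Set.range (taylor (d := d) i (fun l => c (Sum.inr l)) (form c)))) ≤
        ((m + 1 - d : ℕ) : WithBot ℕ∞)}
  obtain ⟨Q, hQ, hQD⟩ := exists_eq_of_generic D (by
    intro A _ _ _ x S hS hD Ω _ _ _ j hj
    let FA : MvPolynomial (Fin (m + 2)) A :=
      ∑ q : GenericFibre.Mon (m + 1) d, monomial q.1 (x (Sum.inl q))
    let vA : Fin (m + 1) → A := fun l => x (Sum.inr l)
    have hFA : FA.IsHomogeneous d :=
      IsHomogeneous.sum _ _ _ fun q _ => isHomogeneous_monomial _ q.2
    have hform : ∀ φ : A →ₐ[k] k, map (φ : A →+* k) FA = form fun a => φ (x a) := by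
      intro φ
      simp only [FA, form, map_sum, map_monomial]
      rfl
    have hbad : ∀ φ ∈ S, ¬ ringKrullDim (MvPolynomial (Fin (m + 1)) k ⧸
        Ideal.span (Set.range fun l : Fin d => map (φ : A →+* k) (taylor i vA FA l))) ≤
        ((m + 1 - d : ℕ) : WithBot ℕ∞) := by
      intro φ hφ
      have h := (hD φ hφ).2
      rw [← hform] at h
      rw [show (fun l : Fin d => map (φ : A →+* k) (taylor i vA FA l)) =
        taylor (d := d) i (fun l => φ (vA l)) (map (φ : A →+* k) FA) from
          funext fun l => map_taylor _ _ _ _ _]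
      exact h
    have hgen := transfer j hj (fun l : Fin d => taylor i vA FA l) (fun l => l.1 + 1)
      (fun l => isHomogeneous_taylor i vA hFA l) S hS (m + 1 - d) hbad
    have h0 : eval (i.insertNth 1 vA) FA = 0 := by
      by_contra hne
      obtain ⟨φ, hφS, hφ⟩ := hS _ hne
      apply hφ
      have h := (hD φ hφS).1
      rw [← hform, eval_map] at h
      have hins : (φ : A →+* k) ∘ (i.insertNth 1 vA) = i.insertNth 1 fun l => φ (vA l) := by
        funext a
        refine Fin.succAboveCases i ?_ (fun a => ?_) a <;> simp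
      rw [← hins, ← eval₂_comp] at h
      exact h
    set vΩ : Fin (m + 1) → Ω := fun l => j (vA l) with hvΩ
    obtain ⟨T, hTv, hT, hcoef⟩ := exists_few (k := k) hdm (fun l : Fin d => l.1 + 1) (fun _ => rfl)
      _ (fun l => (isHomogeneous_taylor i vA hFA l).map _) hgen (Finset.univ.image vΩ)
    refine ⟨T, ?_, fun q => ?_⟩
    · have h1 : (Finset.univ.image vΩ).card ≤ m + 1 :=
        Finset.card_image_le.trans (le_of_eq (by simp))
      have h2 := sum_choose m d
      rw [GenericFibre.card_mon]
      omega
    · have hF0 : eval (i.insertNth 1 vΩ) (map (j : A →+* Ω) FA) = 0 := by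
        have hins : (j : A →+* Ω) ∘ (i.insertNth 1 vA) = i.insertNth 1 vΩ := by
          funext a
          refine Fin.succAboveCases i ?_ (fun a => ?_) a <;> simp [hvΩ]
        rw [eval_map, ← hins, ← eval₂_comp]
        show j (eval (i.insertNth 1 vA) FA) = 0
        rw [h0, map_zero]
      have hmem := coeff_mem (cl k (T : Set Ω)) i vΩ
        (fun l => subset_cl _ (hTv (Finset.mem_image_of_mem _ (Finset.mem_univ l))))
        (hFA.map (j : A →+* Ω)) hF0 (fun l e => by
          have := hcoef l e
          rw [map_taylor] at this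
          exact this) q.1
      rwa [coeff_map, show coeff q.1 FA = x (Sum.inl q) from
        GenericFibre.coeff_sum_monomial (fun q => x (Sum.inl q)) q] at hmem)
  refine ⟨Q, hQ, fun Φ v hne hv => ?_⟩
  by_contra hbad
  apply hne
  have hΦ : form (Sum.elim (GenericFibre.coeffEquiv k (m + 1) d Φ) v) = Φ.1 :=
    (GenericFibre.eq_sum_monomial ((mem_homogeneousSubmodule d _).1 Φ.2)).symm
  exact hQD (Sum.elim (GenericFibre.coeffEquiv k (m + 1) d Φ) v) ⟨by rw [hΦ]; exact hv, by rw [hΦ]; exact hbad⟩

/-- General hypersurfaces have small families of lines through each of their points. -/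
theorem isGeneric_lines (hdm : d ≤ m) :
    LefPen.IsGeneric k {Φ : LefPen.Form (m + 1) k d |
      ∀ v : Fin (m + 2) → k, v ≠ 0 → eval v Φ.1 = 0 →
        LefPen.CodimGE k {w : Fin (m + 2) → k | ∀ s t : k, eval (s • v + t • w) Φ.1 = 0} d} := by
  classical
  choose Q hQ hQv using fun i => exists_eq_chart (k := k) hdm i
  refine GenericFibre.isGeneric_of_poly (GenericFibre.coeffEquiv k (m + 1) d)
    (Q := ∏ i, Q i) (Finset.prod_ne_zero_iff.2 fun i _ => hQ i) fun Φ hΦ v hv0 hv => ?_
  rw [map_prod, Finset.prod_ne_zero_iff] at hΦ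
  obtain ⟨i, hi⟩ := Function.ne_iff.1 hv0
  set v' : Fin (m + 1) → k := fun l => v (i.succAbove l) / v i with hv'
  have hsc : (i.insertNth 1 v' : Fin (m + 2) → k) = (v i)⁻¹ • v := by
    funext a
    refine Fin.succAboveCases i ?_ (fun a => ?_) a
    · simp [inv_mul_cancel₀ hi]
    · simp [hv', div_eq_inv_mul]
  have hhom := (mem_homogeneousSubmodule d _).1 Φ.2
  have hv1 : eval (i.insertNth 1 v') Φ.1 = 0 := by
    rw [hsc]
    have h := eval_smul_zero hhom (v i)⁻¹ hv
    exact h
  have h := codimGE_cone hdm i v' (hQv i Φ v' (hΦ i (Finset.mem_univ i)) hv1)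
  convert h using 2
  ext w
  constructor
  · intro hw s t
    have := hw (s * (v i)⁻¹) t
    rwa [hsc, smul_smul]
  · intro hw s t
    have := hw (s * v i) t
    rwa [hsc, smul_smul, mul_assoc, mul_inv_cancel₀ hi, mul_one] at this

end Cone

end Groth.Agent.GenPt
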