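import Groth.Prelude.Def_LefPen
import Mathlib
import Groth.Agent.GenericFibre.Basic
import Groth.Agent.GenericFibre.Sing
import Groth.Agent.VarDim.Algebra
import Groth.Agent.GenPt.Lines
import Groth.Agent.GenPt.Initial
import Groth.Agent.GenPt.Specialize

/-!
The locus of singular forms is the zero set of one irreducible polynomial.
-/

open MvPolynomial

universe u

namespace Groth.Agent.GenPt.Disc

variable (m d : ℕ)

/-- Exponents occurring in forms singular at `e₀`. -/
abbrev Low : Type := {q : GenericFibre.Mon (m + 1) d // q.1 0 + 2 ≤ d}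

/-- Parameters of a singular form: low coefficients and the singular point. -/
abbrev Par : Type := Low m d ⊕ Fin (m + 1)

variable {m d}

variable {A B : Type*} [CommRing A] [CommRing B]

/-- The form singular at `(1; u)` with low coefficients `t`. -/
noncomputable def singForm (t : Low m d → A) (u : Fin (m + 1) → A) : MvPolynomial (Fin (m + 2)) A :=
  aeval (chartInv 0 u) (∑ q : Low m d, monomial q.1.1 (t q))

theorem isHomogeneous_chartInv (u : Fin (m + 1) → A) {F : MvPolynomial (Fin (m + 2)) A}
    (hF : F.IsHomogeneous d) : (aeval (chartInv 0 u) F).IsHomogeneous d := by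
  have h := hF.aeval (g := chartInv 0 u) (n := 1) fun l => by
    refine Fin.cases ?_ (fun l => ?_) l
    · simpa [chartInv] using isHomogeneous_X A (0 : Fin (m + 2))
    · simpa [chartInv] using
        (isHomogeneous_X A l.succ).sub ((isHomogeneous_X A (0 : Fin (m + 2))).C_mul (u l))
  rw [one_mul] at h
  exact h

theorem isHomogeneous_singForm (t : Low m d → A) (u : Fin (m + 1) → A) :
    (singForm t u).IsHomogeneous d :=
  isHomogeneous_chartInv u (IsHomogeneous.sum _ _ _ fun q _ => isHomogeneous_monomial _ q.1.2)

theorem map_chartInv (φ : A →+* B) (u : Fin (m + 1) → A) :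
    (fun l => map φ (chartInv 0 u l)) = chartInv 0 fun l => φ (u l) := by
  funext l
  refine Fin.cases ?_ (fun l => ?_) l <;> simp [chartInv]

theorem map_singForm (φ : A →+* B) (t : Low m d → A) (u : Fin (m + 1) → A) :
    map φ (singForm t u) = singForm (fun q => φ (t q)) fun l => φ (u l) := by
  simp only [singForm, GenericFibre.map_aeval_eq, map_chartInv, map_sum, map_monomial]

variable {k : Type u} [Field k]

theorem eval_single_monomial {q : GenericFibre.Mon (m + 1) d} (hq : q.1 0 < d) (a : k) :
    eval (Pi.single (0 : Fin (m + 2)) 1) (monomial q.1 a) = 0 := by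
  rw [GenericFibre.eval_single (isHomogeneous_monomial a q.2), coeff_monomial, if_neg]
  intro h
  rw [h, Finsupp.single_eq_same] at hq
  exact lt_irrefl d hq

theorem singAt_low (t : Low m d → k) :
    GenericFibre.SingAt (∑ q : Low m d, monomial q.1.1 (t q)) (Pi.single (0 : Fin (m + 2)) 1) := by
  classical
  refine ⟨?_, fun i => ?_⟩
  · rw [map_sum]
    exact Finset.sum_eq_zero fun q _ => eval_single_monomial (by have := q.2; omega) _
  · simp only [map_sum, pderiv_monomial]
    refine Finset.sum_eq_zero fun q _ => ?_
    rcases Nat.eq_zero_or_pos (q.1.1 i) with h | h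
    · simp [h]
    · have hle : Finsupp.single i 1 ≤ q.1.1 := by
        intro l
        rcases eq_or_ne l i with rfl | hl
        · rw [Finsupp.single_eq_same]
          exact h
        · simp [hl]
      have hd1 : (q.1.1 - Finsupp.single i 1).degree = d - 1 := by
        have h1 := congrArg Finsupp.degree (tsub_add_cancel_of_le hle)
        rw [map_add, Finsupp.degree_single, q.1.2] at h1
        omega
      refine eval_single_monomial (q := ⟨q.1.1 - Finsupp.single i 1, hd1⟩) (d := d - 1) ?_ _
      have := q.2
      have : (q.1.1 - Finsupp.single i 1 : Fin (m + 2) →₀ ℕ) 0 ≤ q.1.1 0 := by simp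
      simp only
      omega

/-- The parametrised forms are singular at their parameter. -/
theorem singAt_singForm (t : Low m d → k) (u : Fin (m + 1) → k) :
    GenericFibre.SingAt (singForm t u) (Fin.cons 1 u) := by
  classical
  have hpt : (fun l => eval (Fin.cons 1 u : Fin (m + 2) → k) (chartInv 0 u l)) = Pi.single 0 1 := by
    funext l
    refine Fin.cases ?_ (fun l => ?_) l <;> simp [chartInv, Fin.succ_ne_zero]
  obtain ⟨h1, h2⟩ := singAt_low (m := m) t
  refine ⟨?_, fun i => ?_⟩
  · rw [singForm, eval_aeval', hpt, h1]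
  · rw [singForm, GenericFibre.pderiv_aeval, map_sum]
    refine Finset.sum_eq_zero fun l _ => ?_
    rw [map_mul, eval_aeval', hpt, h2 l, zero_mul]

theorem exists_eq_low (hd : 1 ≤ d) {F : MvPolynomial (Fin (m + 2)) k} (hF : F.IsHomogeneous d)
    (h : GenericFibre.SingAt F (Pi.single 0 1)) :
    F = ∑ q : Low m d, monomial q.1.1 (coeff q.1.1 F) := by
  classical
  conv_lhs => rw [GenericFibre.eq_sum_monomial hF]
  rw [← Finset.sum_filter_add_sum_filter_not Finset.univ
    (fun q : GenericFibre.Mon (m + 1) d => q.1 0 + 2 ≤ d)]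
  rw [Finset.sum_eq_zero (s := Finset.univ.filter fun q : GenericFibre.Mon (m + 1) d =>
    ¬ q.1 0 + 2 ≤ d) ?_, add_zero]
  · exact (Finset.sum_subtype _ (by simp) _)
  · intro q hq
    rw [Finset.mem_filter] at hq
    have hq2 := q.2
    rw [← Finsupp.cons_tail q.1, Finsupp.degree_eq_sum, Fin.sum_univ_succ] at hq2
    simp only [Finsupp.cons_zero, Finsupp.cons_succ] at hq2
    have hz : coeff q.1 F = 0 := by
      have hsum : ∑ l, q.1.tail l ≤ 1 := by omega
      rcases Nat.eq_zero_or_pos (∑ l, q.1.tail l) with h0 | h1
      · have : q.1 = Finsupp.single 0 d := by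
          ext a
          refine Fin.cases ?_ (fun a => ?_) a
          · simp; omega
          · have := (Finset.sum_eq_zero_iff.1 h0) a (Finset.mem_univ _)
            simp only [Finsupp.tail_apply] at this
            simp [this, Fin.succ_ne_zero]
        rw [this, ← GenericFibre.eval_single hF]
        exact h.1
      · obtain ⟨l, -, hl⟩ := Finset.exists_ne_zero_of_sum_ne_zero
          (show ∑ l, q.1.tail l ≠ 0 by omega)
        have : q.1 = Finsupp.single 0 (d - 1) + Finsupp.single l.succ 1 := by
          ext a
          refine Fin.cases ?_ (fun a => ?_) a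
          · simp [Fin.succ_ne_zero, (Fin.succ_ne_zero l).symm]; omega
          · have hs := Finset.add_sum_erase Finset.univ (fun l => q.1.tail l) (Finset.mem_univ l)
            rcases eq_or_ne a l with rfl | hal
            · simp only [Finsupp.tail_apply] at hs hl hsum
              simp [Fin.succ_ne_zero]
              omega
            · have hle := Finset.single_le_sum (f := fun l => q.1.tail l)
                (fun _ _ => Nat.zero_le _) (Finset.mem_erase.2 ⟨hal, Finset.mem_univ a⟩)
              simp only [Finsupp.tail_apply] at hs hl hle hsum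
              simp [Fin.succ_ne_zero, hal]
              omega
        rw [this]
        exact GenericFibre.coeff_eq_zero_of_singAt hF hd h _
    rw [hz, map_zero]

/-- Forms singular at a vector of the chart lie in the family. -/
theorem exists_param (hd : 1 ≤ d) {G : MvPolynomial (Fin (m + 2)) k} (hG : G.IsHomogeneous d)
    (u : Fin (m + 1) → k) (h : GenericFibre.SingAt G (Fin.cons 1 u)) :
    ∃ t : Low m d → k, G = singForm t u := by
  classical
  have hpt : (fun l => eval (Pi.single (0 : Fin (m + 2)) (1 : k)) (chartSub 0 u l)) = Fin.cons 1 u := by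
    funext l
    refine Fin.cases ?_ (fun l => ?_) l <;> simp [chartSub, Fin.insertNth_zero', Fin.succ_ne_zero]
  have hs : GenericFibre.SingAt (aeval (chartSub 0 u) G) (Pi.single 0 1) := by
    refine ⟨?_, fun i => ?_⟩
    · rw [eval_aeval', hpt, h.1]
    · rw [GenericFibre.pderiv_aeval, map_sum]
      refine Finset.sum_eq_zero fun l _ => ?_
      rw [map_mul, eval_aeval', hpt, h.2 l, zero_mul]
  have hF := exists_eq_low hd (isHomogeneous_chartSub 0 u hG) hs
  refine ⟨fun q => coeff q.1.1 (aeval (chartSub 0 u) G), ?_⟩
  rw [singForm, ← hF, chartInv_chartSub]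

/-! ### Independent coordinates -/

/-- The exponent of `x₀^(d-1) x_l`. -/
noncomputable def linMon (hd : 1 ≤ d) (l : Fin (m + 1)) : GenericFibre.Mon (m + 1) d :=
  ⟨Finsupp.single 0 (d - 1) + Finsupp.single l.succ 1, by
    rw [map_add, Finsupp.degree_single, Finsupp.degree_single]; omega⟩

/-- The exponent of `x₀^d`. -/
noncomputable def topMon (m d : ℕ) : GenericFibre.Mon (m + 1) d :=
  ⟨Finsupp.single 0 d, Finsupp.degree_single _ _⟩

/-- A quadratic base form on the affine coordinates. -/
noncomputable def quadBase (P2 : Finset (Fin (m + 1) × Fin (m + 1))) (d : ℕ) (A : Type*)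
    [CommRing A] : MvPolynomial (Fin (m + 2)) A :=
  ∑ p ∈ P2, X p.1.succ * X p.2.succ * X 0 ^ (d - 2)

/-- Its Taylor expansion after moving the singular point. -/
theorem aeval_quadBase (hd : 2 ≤ d) (P2 : Finset (Fin (m + 1) × Fin (m + 1)))
    (u : Fin (m + 1) → A) :
    aeval (chartInv 0 u) (quadBase P2 d A) = quadBase P2 d A -
      (∑ p ∈ P2, (C (u p.2) * monomial (linMon (d := d) (by omega) p.1).1 1 +
        C (u p.1) * monomial (linMon (d := d) (by omega) p.2).1 1)) +
      C (∑ p ∈ P2, u p.1 * u p.2) * monomial (topMon m d).1 1 := by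
  classical
  have hlin : ∀ l : Fin (m + 1), (monomial (linMon (d := d) (by omega) l).1 (1 : A)) =
      X 0 ^ (d - 1) * X l.succ := fun l => by
    rw [X_pow_eq_monomial, X, monomial_mul, one_mul]
    rfl
  have htop : (monomial (topMon m d).1 (1 : A)) = X 0 ^ d := by
    rw [X_pow_eq_monomial]; rfl
  simp only [quadBase, map_sum, hlin, htop, Finset.sum_mul, ← Finset.sum_sub_distrib,
    ← Finset.sum_add_distrib]
  refine Finset.sum_congr rfl fun p _ => ?_
  obtain ⟨e, rfl⟩ : ∃ e, d = e + 2 := ⟨d - 2, by omega⟩
  simp only [map_mul, map_pow, aeval_X, chartInv, Fin.cons_zero, Fin.cons_succ,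
    Fin.succAbove_zero, Nat.add_sub_cancel, show e + 2 - 1 = e + 1 from rfl]
  ring

theorem map_quadBase (φ : A →+* B) (P2 : Finset (Fin (m + 1) × Fin (m + 1))) :
    map φ (quadBase P2 d A) = quadBase P2 d B := by
  simp [quadBase, map_sum]

theorem isHomogeneous_quadBase (hd : 2 ≤ d) (P2 : Finset (Fin (m + 1) × Fin (m + 1))) :
    (quadBase P2 d A).IsHomogeneous d := by
  refine IsHomogeneous.sum _ _ _ fun p _ => ?_
  have := ((isHomogeneous_X A p.1.succ).mul (isHomogeneous_X A p.2.succ)).mul
    (isHomogeneous_X_pow (R := A) (0 : Fin (m + 2)) (d - 2))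
  rwa [show 1 + 1 + (d - 2) = d by omega] at this

theorem coeff_quadBase_high (hd : 2 ≤ d) (P2 : Finset (Fin (m + 1) × Fin (m + 1)))
    {q : GenericFibre.Mon (m + 1) d} (hq : ¬ q.1 0 + 2 ≤ d) : coeff q.1 (quadBase P2 d A) = 0 := by
  classical
  rw [quadBase, coeff_sum]
  refine Finset.sum_eq_zero fun p _ => ?_
  rw [X_pow_eq_monomial, X, X, monomial_mul, monomial_mul, coeff_monomial, if_neg]
  intro h
  apply hq
  rw [← h]
  simp [Fin.succ_ne_zero, (Fin.succ_ne_zero _).symm]
  omega

/-- Expansion along `t = base + T·s`, `u = T·y`. -/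
theorem coeff_singForm_linear (hd : 2 ≤ d) (P2 : Finset (Fin (m + 1) × Fin (m + 1)))
    (e₀ : A →+* B) (T : A) (hT : e₀ T = 0) (s : Low m d → A) (y : Fin (m + 1) → A) :
    (∀ q : Low m d, ∃ u : A,
      coeff q.1.1 (singForm (fun r => coeff r.1.1 (quadBase P2 d A) + T * s r) fun l => T * y l) =
        coeff q.1.1 (quadBase P2 d A) + T * u ∧ e₀ u = e₀ (s q)) ∧
    (∀ l : Fin (m + 1), ∃ u : A,
      coeff (linMon (d := d) (by omega) l).1
          (singForm (fun r => coeff r.1.1 (quadBase P2 d A) + T * s r) fun l => T * y l) = T * u ∧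
        e₀ u = - ∑ p ∈ P2, ((if p.1 = l then e₀ (y p.2) else 0) + if p.2 = l then e₀ (y p.1) else 0)) ∧
    ∃ u : A,
      coeff (topMon m d).1
          (singForm (fun r => coeff r.1.1 (quadBase P2 d A) + T * s r) fun l => T * y l) =
        T ^ 2 * u ∧ e₀ u = ∑ p ∈ P2, e₀ (y p.1) * e₀ (y p.2) := by
  classical
  set S : MvPolynomial (Fin (m + 2)) A := ∑ q : Low m d, monomial q.1.1 (s q) with hS
  have hB : quadBase P2 d A = ∑ q : Low m d, monomial q.1.1 (coeff q.1.1 (quadBase P2 d A)) := by
    conv_lhs => rw [GenericFibre.eq_sum_monomial (isHomogeneous_quadBase (A := A) hd P2)]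
    rw [← Finset.sum_filter_add_sum_filter_not Finset.univ
      (fun q : GenericFibre.Mon (m + 1) d => q.1 0 + 2 ≤ d),
      Finset.sum_eq_zero (s := Finset.univ.filter fun q : GenericFibre.Mon (m + 1) d =>
        ¬ q.1 0 + 2 ≤ d) (fun q hq => by
          rw [coeff_quadBase_high hd P2 (Finset.mem_filter.1 hq).2, map_zero]), add_zero]
    exact Finset.sum_subtype _ (by simp) _
  set W : MvPolynomial (Fin (m + 2)) A := aeval (chartInv 0 fun l => T * y l) S with hW
  have hG : singForm (fun r => coeff r.1.1 (quadBase P2 d A) + T * s r) (fun l => T * y l) =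
      aeval (chartInv 0 fun l => T * y l) (quadBase P2 d A) + C T * W := by
    rw [singForm, hW, show (∑ q : Low m d, monomial q.1.1 (coeff q.1.1 (quadBase P2 d A) + T * s q)) =
      quadBase P2 d A + C T * S from ?_, map_add, map_mul, aeval_C]
    · rfl
    · conv_rhs => rw [hB]
      rw [hS, Finset.mul_sum, ← Finset.sum_add_distrib]
      exact Finset.sum_congr rfl fun q _ => by rw [C_mul_monomial, ← map_add]
  have hshear : (fun l => map e₀ (chartInv 0 (fun l => T * y l) l)) = X := by
    rw [map_chartInv]
    funext l
    refine Fin.cases ?_ (fun l => ?_) l <;> simp [chartInv, hT]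
  have hW0 : map e₀ W = ∑ q : Low m d, monomial q.1.1 (e₀ (s q)) := by
    rw [hW, GenericFibre.map_aeval_eq, hshear, aeval_X_left_apply, hS, map_sum]
    simp only [map_monomial]
  have hWlow : ∀ q : Low m d, e₀ (coeff q.1.1 W) = e₀ (s q) := by
    intro q
    rw [← coeff_map, hW0, coeff_sum, Finset.sum_eq_single q, coeff_monomial, if_pos rfl]
    · intro r _ hr
      rw [coeff_monomial, if_neg fun h => hr (Subtype.ext (Subtype.ext h))]
    · simp
  have hWhigh : ∀ q : GenericFibre.Mon (m + 1) d, ¬ q.1 0 + 2 ≤ d → e₀ (coeff q.1 W) = 0 := by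
    intro q hq
    rw [← coeff_map, hW0, coeff_sum]
    refine Finset.sum_eq_zero fun r _ => ?_
    rw [coeff_monomial, if_neg]
    intro h
    exact hq (h ▸ r.2)
  have hlow_ne : ∀ (q : Low m d) (l : Fin (m + 1)), (linMon (d := d) (by omega) l).1 ≠ q.1.1 := by
    intro q l h
    have h2 := q.2
    rw [← h] at h2
    simp [linMon, (Fin.succ_ne_zero l).symm] at h2
    omega
  have htop_ne : ∀ q : Low m d, (topMon m d).1 ≠ q.1.1 := by
    intro q h
    have h2 := q.2
    rw [← h] at h2
    simp [topMon] at h2
  have hlt : ∀ l : Fin (m + 1), (linMon (d := d) (by omega) l).1 ≠ (topMon m d).1 := by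
    intro l h
    have := DFunLike.congr_fun h 0
    simp [linMon, topMon, (Fin.succ_ne_zero l).symm] at this
    omega
  have hhl : ∀ l : Fin (m + 1), ¬ (linMon (d := d) (by omega) l).1 0 + 2 ≤ d := fun l => by
    simp [linMon, (Fin.succ_ne_zero l).symm]; omega
  have hht : ¬ (topMon m d).1 0 + 2 ≤ d := by simp [topMon]
  refine ⟨fun q => ⟨coeff q.1.1 W, ?_, hWlow q⟩, fun l => ?_, ?_⟩
  · rw [hG, aeval_quadBase hd, coeff_add, coeff_add, coeff_sub, coeff_C_mul, coeff_C_mul,
      coeff_sum, Finset.sum_eq_zero, coeff_monomial, if_neg (htop_ne q), mul_zero, sub_zero, add_zero]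
    intro p _
    rw [coeff_add, coeff_C_mul, coeff_C_mul, coeff_monomial, coeff_monomial, if_neg (hlow_ne q _),
      if_neg (hlow_ne q _), mul_zero, mul_zero, add_zero]
  · refine ⟨- (∑ p ∈ P2, ((if p.1 = l then y p.2 else 0) + if p.2 = l then y p.1 else 0)) +
      coeff (linMon (d := d) (by omega) l).1 W, ?_, ?_⟩
    · rw [hG, aeval_quadBase hd, coeff_add, coeff_add, coeff_sub, coeff_C_mul, coeff_C_mul,
        coeff_sum, coeff_monomial, if_neg (Ne.symm (hlt l)), mul_zero, add_zero,
        coeff_quadBase_high hd P2 (hhl l), zero_sub, mul_add, mul_neg, Finset.mul_sum]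
      congr 2
      refine Finset.sum_congr rfl fun p _ => ?_
      have hinj : ∀ a : Fin (m + 1), ((linMon (d := d) (by omega) a).1 =
          (linMon (d := d) (by omega) l).1) ↔ a = l := by
        intro a
        refine ⟨fun h => ?_, fun h => by rw [h]⟩
        by_contra hal
        have := DFunLike.congr_fun h a.succ
        simp [linMon, Fin.succ_ne_zero, hal] at this
      simp only [coeff_add, coeff_C_mul, coeff_monomial, hinj]
      split_ifs <;> ring
    · rw [map_add, hWhigh _ (hhl l), add_zero, map_neg, map_sum]
      congr 1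
      refine Finset.sum_congr rfl fun p _ => ?_
      rw [map_add]
      split_ifs <;> simp
  · -- `T` divides the top coefficient of `W`
    obtain ⟨a, ha⟩ : ∃ a, coeff (topMon m d).1 W = T * a ∧ e₀ a = 0 := by
      have hval : coeff (topMon m d).1 W = ∑ q : Low m d,
          s q * ∏ l : Fin (m + 1), (-(T * y l)) ^ q.1.1 l.succ := by
        rw [hW, hS, map_sum, coeff_sum]
        refine Finset.sum_congr rfl fun q _ => ?_
        rw [aeval_monomial, Finsupp.prod_fintype _ _ (by simp), Fin.prod_univ_succ,
          algebraMap_eq, coeff_C_mul]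
        congr 1
        simp only [chartInv, Fin.cons_zero, Fin.cons_succ, Fin.succAbove_zero]
        have key : ∀ (Z : Finset (Fin (m + 1))) (e : Fin (m + 1) → ℕ) (N : ℕ),
            coeff (Finsupp.single (0 : Fin (m + 2)) (N + ∑ l ∈ Z, e l))
              (X 0 ^ N * ∏ l ∈ Z, (X l.succ - C (T * y l) * X 0) ^ e l) =
              ∏ l ∈ Z, (-(T * y l)) ^ e l := by
          intro Z e N
          have hhom : (X (0 : Fin (m + 2)) ^ N *
              ∏ l ∈ Z, (X l.succ - C (T * y l) * X 0 : MvPolynomial (Fin (m + 2)) A) ^ e l).IsHomogeneous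
              (N + ∑ l ∈ Z, e l) := by
            refine (isHomogeneous_X_pow _ _).mul (IsHomogeneous.prod _ _ _ fun l _ => ?_)
            have := (((isHomogeneous_X A l.succ).sub
              ((isHomogeneous_X A (0 : Fin (m + 2))).C_mul (T * y l)))).pow (e l)
            rwa [one_mul] at this
          have hev : eval (Fin.cons 1 0 : Fin (m + 2) → A) (X (0 : Fin (m + 2)) ^ N *
              ∏ l ∈ Z, (X l.succ - C (T * y l) * X 0 : MvPolynomial (Fin (m + 2)) A) ^ e l) =
              ∏ l ∈ Z, (-(T * y l)) ^ e l := by
            simp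
          refine Eq.trans ?_ hev
          rw [eval_eq']
          rw [Finset.sum_eq_single (Finsupp.single (0 : Fin (m + 2)) (N + ∑ l ∈ Z, e l))]
          · rw [Finset.prod_eq_one (s := (Finset.univ : Finset (Fin (m + 2)))) fun i _ => ?_, mul_one]
            refine Fin.cases ?_ (fun i => ?_) i <;> simp [Fin.succ_ne_zero]
          · intro b hb hne
            refine mul_eq_zero_of_right _ ?_
            obtain ⟨l, hl⟩ : ∃ l : Fin (m + 1), b l.succ ≠ 0 := by
              by_contra h
              push Not at h
              apply hne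
              have hdeg : b.degree = N + ∑ l ∈ Z, e l := by
                by_contra h'
                exact (mem_support_iff.1 hb) (hhom.coeff_eq_zero h')
              ext i
              refine Fin.cases ?_ (fun i => ?_) i
              · rw [Finsupp.degree_eq_sum, Fin.sum_univ_succ] at hdeg
                simp only [h, Finset.sum_const_zero, add_zero] at hdeg
                rw [Finsupp.single_eq_same, hdeg]
              · rw [h, Finsupp.single_eq_of_ne (Fin.succ_ne_zero i)]
            refine Finset.prod_eq_zero (Finset.mem_univ l.succ) ?_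
            simp [hl]
          · intro h
            rw [notMem_support_iff.1 h, zero_mul]
        have hdeg := q.1.2
        rw [Finsupp.degree_eq_sum, Fin.sum_univ_succ] at hdeg
        have := key Finset.univ (fun l => q.1.1 l.succ) (q.1.1 0)
        rw [hdeg] at this
        exact this
      have hfac : ∀ q : Low m d, ∃ c : A,
          (∏ l : Fin (m + 1), (-(T * y l)) ^ q.1.1 l.succ) = T * c ∧ e₀ c = 0 := by
        intro q
        have hdeg := q.1.2
        rw [Finsupp.degree_eq_sum, Fin.sum_univ_succ] at hdeg
        have h2 := q.2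
        obtain ⟨N, hN⟩ : ∃ N, ∑ l : Fin (m + 1), q.1.1 l.succ = N + 2 :=
          ⟨(∑ l : Fin (m + 1), q.1.1 l.succ) - 2, by omega⟩
        refine ⟨T * T ^ N * ∏ l : Fin (m + 1), (- y l) ^ q.1.1 l.succ, ?_, ?_⟩
        · simp only [← mul_neg, mul_pow, Finset.prod_mul_distrib, Finset.prod_pow_eq_pow_sum, hN]
          ring
        · rw [map_mul, map_mul, hT, zero_mul, zero_mul]
      choose c hc hc0 using hfac
      refine ⟨∑ q : Low m d, s q * c q, ?_, ?_⟩
      · rw [hval, Finset.mul_sum]
        exact Finset.sum_congr rfl fun q _ => by rw [hc]; ring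
      · simp [map_sum, hc0]
    refine ⟨(∑ p ∈ P2, y p.1 * y p.2) + a, ?_, by simp [map_sum, ha.2]⟩
    rw [hG, aeval_quadBase hd, coeff_add, coeff_add, coeff_sub, coeff_C_mul, coeff_C_mul,
      coeff_sum, coeff_quadBase_high hd P2 hht, coeff_monomial, if_pos rfl, ha.1,
      Finset.sum_eq_zero, sub_zero, zero_add, mul_one, mul_add, Finset.mul_sum]
    · congr 1
      · exact Finset.sum_congr rfl fun p _ => by ring
      · ring
    · intro p _
      rw [coeff_add, coeff_C_mul, coeff_C_mul, coeff_monomial, coeff_monomial, if_neg (hlt _),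
        if_neg (hlt _), mul_zero, mul_zero, add_zero]

/-! ### The prime of singular forms -/

/-- The coefficient of the universal singular form. -/
noncomputable def univCoeff (k : Type u) [Field k] (m d : ℕ) (q : GenericFibre.Mon (m + 1) d) :
    MvPolynomial (Par m d) k :=
  coeff q.1 (singForm (fun r => X (Sum.inl r)) fun l => X (Sum.inr l))

/-- The prime of the locus of singular forms. -/
noncomputable def singPrime (k : Type u) [Field k] (m d : ℕ) : Ideal (MvPolynomial (GenericFibre.Mon (m + 1) d) k) :=
  RingHom.ker (aeval (univCoeff k m d) :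
    MvPolynomial (GenericFibre.Mon (m + 1) d) k →ₐ[k] MvPolynomial (Par m d) k)

instance singPrime_isPrime : (singPrime k m d).IsPrime := RingHom.ker_isPrime _

theorem high_cases (hd : 1 ≤ d) {q : GenericFibre.Mon (m + 1) d} (hq : ¬ q.1 0 + 2 ≤ d) :
    q = topMon m d ∨ ∃ l, q = linMon hd l := by
  classical
  have hq2 := q.2
  rw [Finsupp.degree_eq_sum, Fin.sum_univ_succ] at hq2
  rcases Nat.eq_zero_or_pos (∑ l : Fin (m + 1), q.1 l.succ) with h0 | h1
  · left
    refine Subtype.ext (Finsupp.ext fun a => Fin.cases ?_ (fun a => ?_) a)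
    · simp [topMon]; omega
    · simp [topMon, Fin.succ_ne_zero, (Finset.sum_eq_zero_iff.1 h0) a (Finset.mem_univ _)]
  · right
    obtain ⟨l, -, hl⟩ := Finset.exists_ne_zero_of_sum_ne_zero
      (show ∑ l : Fin (m + 1), q.1 l.succ ≠ 0 by omega)
    have hs := Finset.add_sum_erase Finset.univ (fun l : Fin (m + 1) => q.1 l.succ) (Finset.mem_univ l)
    refine ⟨l, Subtype.ext (Finsupp.ext fun a => Fin.cases ?_ (fun a => ?_) a)⟩
    · simp [linMon, (Fin.succ_ne_zero l).symm]; omega
    · rcases eq_or_ne a l with rfl | hal
      · simp [linMon, Fin.succ_ne_zero]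
        omega
      · have hle := Finset.single_le_sum (f := fun l : Fin (m + 1) => q.1 l.succ)
          (fun _ _ => Nat.zero_le _) (Finset.mem_erase.2 ⟨hal, Finset.mem_univ a⟩)
        simp [linMon, Fin.succ_ne_zero, hal]
        omega

theorem card_mon_eq (hd : 2 ≤ d) :
    Fintype.card (GenericFibre.Mon (m + 1) d) = Fintype.card (Par m d) + 1 := by
  classical
  have hinj : Function.Injective (linMon (m := m) (d := d) (by omega)) := by
    intro a b h
    by_contra hab
    have := DFunLike.congr_fun (congrArg Subtype.val h) a.succ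
    simp [linMon, Fin.succ_ne_zero, Ne.symm hab] at this
  have hnot : topMon m d ∉ Finset.univ.image (linMon (m := m) (d := d) (by omega)) := by
    intro h
    obtain ⟨l, -, hl⟩ := Finset.mem_image.1 h
    have := DFunLike.congr_fun (congrArg Subtype.val hl) l.succ
    simp [linMon, topMon, Fin.succ_ne_zero] at this
  have hset : (Finset.univ.filter fun q : GenericFibre.Mon (m + 1) d => ¬ q.1 0 + 2 ≤ d) =
      insert (topMon m d) (Finset.univ.image (linMon (m := m) (d := d) (by omega))) := by
    ext q
    simp only [Finset.mem_filter, Finset.mem_univ, true_and, Finset.mem_insert, Finset.mem_image]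
    constructor
    · intro hq
      rcases high_cases (by omega) hq with h | ⟨l, h⟩
      · exact Or.inl h
      · exact Or.inr ⟨l, h.symm⟩
    · rintro (rfl | ⟨l, rfl⟩)
      · simp [topMon]
      · simp [linMon, (Fin.succ_ne_zero l).symm]; omega
  have h1 := Finset.card_filter_add_card_filter_not
    (fun q : GenericFibre.Mon (m + 1) d => q.1 0 + 2 ≤ d) (s := (Finset.univ : Finset _))
  rw [hset, Finset.card_insert_of_notMem hnot, Finset.card_image_of_injective _ hinj,
    Finset.card_univ, Finset.card_univ, Fintype.card_fin] at h1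
  have h5 : Fintype.card (Low m d) = (Finset.univ.filter fun q : GenericFibre.Mon (m + 1) d =>
      q.1 0 + 2 ≤ d).card := by
    convert Fintype.card_subtype (fun q : GenericFibre.Mon (m + 1) d => q.1 0 + 2 ≤ d)
  rw [Fintype.card_sum, Fintype.card_fin]
  omega

/-- Injectivity from a base quadric and a choice of coordinates. -/
theorem injective_of_base (hd : 2 ≤ d) (P2 : Finset (Fin (m + 1) × Fin (m + 1)))
    (top : Fin (m + 1) → Bool) (σ : Fin (m + 1) → Fin (m + 1))
    (L : Fin (m + 1) → MvPolynomial (Par m d) k)
    (hLlin : ∀ l, top l = false → L l =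
      - ∑ p ∈ P2, ((if p.1 = σ l then X (Sum.inr p.2) else 0) +
          if p.2 = σ l then X (Sum.inr p.1) else 0))
    (hLtop : ∀ l, top l = true → L l = ∑ p ∈ P2, X (Sum.inr p.1) * X (Sum.inr p.2))
    (halg : ∀ l : Fin (m + 1), IsAlgebraic (Algebra.adjoin k
      (Set.range (Sum.elim (fun q : Low m d => (X (Sum.inl q) : MvPolynomial (Par m d) k)) L)))
      (X (Sum.inr l) : MvPolynomial (Par m d) k)) :
    Function.Injective ((aeval (univCoeff k m d)).comp (rename (Sum.elim Subtype.val fun l =>
      if top l = true then topMon m d else linMon (m := m) (d := d) (by omega) (σ l))) :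
      MvPolynomial (Par m d) k →ₐ[k] MvPolynomial (Par m d) k) := by
  classical
  set sel : Par m d → GenericFibre.Mon (m + 1) d := Sum.elim Subtype.val fun l =>
    if top l = true then topMon m d else linMon (m := m) (d := d) (by omega) (σ l) with hsel
  set base : Par m d → k := Sum.elim (fun q => coeff q.1.1 (quadBase P2 d k)) fun _ => 0 with hbase
  -- translate so that the base is the origin
  let τ : MvPolynomial (Par m d) k →ₐ[k] MvPolynomial (Par m d) k :=
    aeval fun i => X i + C (base i)
  let P : Par m d → MvPolynomial (Par m d) k := fun i => τ (univCoeff k m d (sel i))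
  have hindep : AlgebraicIndependent k fun i => P i - C (base i) := by
    refine indep_of_initial _ (Sum.elim (fun q : Low m d => X (Sum.inl q)) L)
      (Sum.elim (fun _ => 1) fun l => if top l = true then 2 else 1) ?_ fun i => ?_
    · refine indep_of_isAlgebraic_X _ fun i => ?_
      rcases i with q | l
      · exact isAlgebraic_algebraMap (⟨_, Algebra.subset_adjoin ⟨Sum.inl q, rfl⟩⟩ : Algebra.adjoin k
          (Set.range (Sum.elim (fun q : Low m d => (X (Sum.inl q) : MvPolynomial (Par m d) k)) L)))
      · exact halg l
    obtain ⟨h1, h2, h3⟩ := coeff_singForm_linear hd P2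
      (Polynomial.evalRingHom (0 : MvPolynomial (Par m d) k)) Polynomial.X (by simp)
      (fun q => Polynomial.C (X (Sum.inl q))) fun l => Polynomial.C (X (Sum.inr l))
    let ev : MvPolynomial (Par m d) k →ₐ[k] Polynomial (MvPolynomial (Par m d) k) :=
      aeval fun j => Polynomial.X * Polynomial.C (X j)
    have hev : ∀ q : GenericFibre.Mon (m + 1) d, ev (τ (univCoeff k m d q)) = coeff q.1
        (singForm (fun r => coeff r.1.1 (quadBase P2 d (Polynomial (MvPolynomial (Par m d) k))) +
          Polynomial.X * Polynomial.C (X (Sum.inl r))) fun l => Polynomial.X * Polynomial.C (X (Sum.inr l))) := by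
      intro q
      show (ev.comp τ).toRingHom (univCoeff k m d q) = _
      rw [univCoeff, ← coeff_map, map_singForm]
      congr 2
      · funext r
        show ev (τ (X (Sum.inl r))) = _
        rw [show τ (X (Sum.inl r)) = X (Sum.inl r) + C (base (Sum.inl r)) from aeval_X _ _, map_add,
          aeval_X, aeval_C, ← map_quadBase (algebraMap k (Polynomial (MvPolynomial (Par m d) k))),
          coeff_map]
        exact add_comm _ _
      · funext l
        show ev (τ (X (Sum.inr l))) = _
        rw [show τ (X (Sum.inr l)) = X (Sum.inr l) + C (base (Sum.inr l)) from aeval_X _ _, map_add,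
          aeval_X, aeval_C, show base (Sum.inr l) = 0 from rfl, map_zero, add_zero]
    rcases i with q | l
    · obtain ⟨u, hu, hu0⟩ := h1 q
      refine ⟨u, ?_, ?_⟩
      · show ev (P (Sum.inl q) - C (base (Sum.inl q))) = _
        rw [map_sub, show ev (P (Sum.inl q)) = _ from hev q.1, hu, aeval_C,
          ← map_quadBase (algebraMap k (Polynomial (MvPolynomial (Par m d) k))), coeff_map]
        simp only [Sum.elim_inl, pow_one]
        exact add_sub_cancel_left _ _
      · rw [Polynomial.coeff_zero_eq_eval_zero]
        simpa using hu0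
    · have hP : ev (P (Sum.inr l) - C (base (Sum.inr l))) = coeff (sel (Sum.inr l)).1
          (singForm (fun r => coeff r.1.1 (quadBase P2 d (Polynomial (MvPolynomial (Par m d) k))) +
          Polynomial.X * Polynomial.C (X (Sum.inl r))) fun l => Polynomial.X * Polynomial.C (X (Sum.inr l))) := by
        rw [show base (Sum.inr l) = 0 from rfl, map_zero, sub_zero]
        exact hev _
      cases htop : top l with
      | true =>
        obtain ⟨u, hu, hu0⟩ := h3
        refine ⟨u, ?_, ?_⟩
        · show ev (P (Sum.inr l) - C (base (Sum.inr l))) = _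
          rw [hP, show sel (Sum.inr l) = topMon m d by simp [hsel, htop], hu]
          simp [htop]
        · rw [Polynomial.coeff_zero_eq_eval_zero, Sum.elim_inr, hLtop l htop]
          simpa using hu0
      | false =>
        obtain ⟨u, hu, hu0⟩ := h2 (σ l)
        refine ⟨u, ?_, ?_⟩
        · show ev (P (Sum.inr l) - C (base (Sum.inr l))) = _
          rw [hP, show sel (Sum.inr l) = linMon (by omega) (σ l) by simp [hsel, htop], hu]
          simp [htop]
        · rw [Polynomial.coeff_zero_eq_eval_zero, Sum.elim_inr, hLlin l htop]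
          simpa using hu0
  have hcomp : τ.comp ((aeval (univCoeff k m d)).comp (rename sel)) =
      (aeval P : MvPolynomial (Par m d) k →ₐ[k] _) := algHom_ext fun i => by
    simp [P]
  have hP' := injective_aeval_of_translate P base hindep
  rw [← hcomp, AlgHom.coe_comp] at hP'
  exact hP'.of_comp

/-- Some choice of coordinates of the singular locus is independent. -/
theorem exists_injective (hd : 2 ≤ d) : ∃ sel : Par m d → GenericFibre.Mon (m + 1) d,
    Function.Injective ((aeval (univCoeff k m d)).comp (rename sel) :
      MvPolynomial (Par m d) k →ₐ[k] MvPolynomial (Par m d) k) := by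
  classical
  by_cases h2 : (2 : k) = 0
  · -- characteristic two: hyperbolic pairs
    have hX2 : (2 : MvPolynomial (Par m d) k) = 0 := by
      rw [show (2 : MvPolynomial (Par m d) k) = C (2 : k) from (map_ofNat C 2).symm, h2, map_zero]
    let pairs : Finset (Fin (m + 1) × Fin (m + 1)) :=
      Finset.univ.filter fun p => (p.1.1 % 2 = 0 ∧ p.2.1 = p.1.1 + 1) ∨
        (p.1.1 % 2 = 0 ∧ p.1.1 = m ∧ p.2.1 = m)
    let partner : Fin (m + 1) → Fin (m + 1) := fun l =>
      if l.1 % 2 = 0 then (if h : l.1 + 1 < m + 1 then ⟨l.1 + 1, h⟩ else l)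
      else ⟨l.1 - 1, by omega⟩
    let top : Fin (m + 1) → Bool := fun l => decide (l.1 % 2 = 0 ∧ l.1 = m)
    have hlin : ∀ l : Fin (m + 1), ¬ (l.1 % 2 = 0 ∧ l.1 = m) →
        (- ∑ p ∈ pairs, ((if p.1 = partner l then X (Sum.inr p.2) else 0) +
          if p.2 = partner l then X (Sum.inr p.1) else 0)) =
          (X (Sum.inr l) : MvPolynomial (Par m d) k) := by
      intro l hl
      have hneg : ∀ a : MvPolynomial (Par m d) k, - a = a := fun a => by
        linear_combination (-a) * hX2
      rw [hneg, Finset.sum_add_distrib, ← Finset.sum_filter, ← Finset.sum_filter]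
      have hl2 := l.2
      rcases Nat.mod_two_eq_zero_or_one l.1 with he | ho
      · have hlt : l.1 + 1 < m + 1 := by omega
        have hp : partner l = ⟨l.1 + 1, hlt⟩ := by
          show (if l.1 % 2 = 0 then (if h : l.1 + 1 < m + 1 then ⟨l.1 + 1, h⟩ else l) else _) = _
          rw [if_pos he, dif_pos hlt]
        rw [hp, show pairs.filter (fun p => p.1 = ⟨l.1 + 1, hlt⟩) = ∅ from ?_,
          show pairs.filter (fun p => p.2 = ⟨l.1 + 1, hlt⟩) = {(l, ⟨l.1 + 1, hlt⟩)} from ?_,
          Finset.sum_empty, Finset.sum_singleton, zero_add]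
        · ext ⟨a, b⟩
          simp only [pairs, Finset.mem_filter, Finset.mem_univ, true_and, Finset.mem_singleton,
            Prod.mk.injEq, Fin.ext_iff]
          omega
        · ext ⟨a, b⟩
          simp only [pairs, Finset.mem_filter, Finset.mem_univ, true_and, Finset.notMem_empty,
            iff_false, Fin.ext_iff]
          omega
      · have hp : partner l = ⟨l.1 - 1, by omega⟩ := by simp [partner, ho]
        rw [hp, show pairs.filter (fun p => p.1 = (⟨l.1 - 1, by omega⟩ : Fin (m + 1))) =
            {((⟨l.1 - 1, by omega⟩ : Fin (m + 1)), l)} from ?_,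
          show pairs.filter (fun p => p.2 = (⟨l.1 - 1, by omega⟩ : Fin (m + 1))) = ∅ from ?_,
          Finset.sum_empty, Finset.sum_singleton, add_zero]
        · ext ⟨a, b⟩
          simp only [pairs, Finset.mem_filter, Finset.mem_univ, true_and, Finset.notMem_empty,
            iff_false, Fin.ext_iff]
          omega
        · ext ⟨a, b⟩
          simp only [pairs, Finset.mem_filter, Finset.mem_univ, true_and, Finset.mem_singleton,
            Prod.mk.injEq, Fin.ext_iff]
          omega
    refine ⟨_, injective_of_base hd pairs top partner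
      (fun l => if top l = true then ∑ p ∈ pairs, X (Sum.inr p.1) * X (Sum.inr p.2) else X (Sum.inr l))
      (fun l hl => ?_) (fun l hl => by simp [hl]) fun l => ?_⟩
    · simp only [hl, Bool.false_eq_true, if_false]
      exact (hlin l (by simpa [top] using hl)).symm
    · set L' : Fin (m + 1) → MvPolynomial (Par m d) k := fun l =>
        if top l = true then ∑ p ∈ pairs, X (Sum.inr p.1) * X (Sum.inr p.2) else X (Sum.inr l)
      set R := Algebra.adjoin k
        (Set.range (Sum.elim (fun q : Low m d => (X (Sum.inl q) : MvPolynomial (Par m d) k)) L'))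
      have hlow : ∀ l' : Fin (m + 1), top l' = false → (X (Sum.inr l') : MvPolynomial (Par m d) k) ∈ R :=
        fun l' h => Algebra.subset_adjoin ⟨Sum.inr l', by simp [L', h]⟩
      cases htop : top l with
      | false => exact isAlgebraic_algebraMap (⟨_, hlow l htop⟩ : R)
      | true =>
        have hl : l.1 % 2 = 0 ∧ l.1 = m := by simpa [top] using htop
        have hmem : (l, l) ∈ pairs := by
          simp only [pairs, Finset.mem_filter, Finset.mem_univ, true_and]
          omega
        have hrest : ∑ p ∈ pairs.erase (l, l), (X (Sum.inr p.1) * X (Sum.inr p.2) :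
            MvPolynomial (Par m d) k) ∈ R := by
          refine Subalgebra.sum_mem _ fun p hp => ?_
          obtain ⟨hne, hp⟩ := Finset.mem_erase.1 hp
          simp only [pairs, Finset.mem_filter, Finset.mem_univ, true_and] at hp
          simp only [ne_eq, Prod.ext_iff, Fin.ext_iff] at hne
          have h1 : top p.1 = false := by
            simp only [top, decide_eq_false_iff_not]; omega
          have h2 : top p.2 = false := by
            simp only [top, decide_eq_false_iff_not]; omega
          exact Subalgebra.mul_mem _ (hlow _ h1) (hlow _ h2)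
        have hsq : (X (Sum.inr l) : MvPolynomial (Par m d) k) ^ 2 ∈ R := by
          have hL : L' l ∈ R := Algebra.subset_adjoin ⟨Sum.inr l, rfl⟩
          have h := Subalgebra.sub_mem _ hL hrest
          simp only [L', htop, if_true] at h
          rw [← Finset.add_sum_erase pairs _ hmem, add_sub_cancel_right] at h
          rwa [sq]
        exact IsAlgebraic.of_pow (by norm_num : 0 < 2) (isAlgebraic_algebraMap (⟨_, hsq⟩ : R))
  · -- characteristic not two: a diagonal quadric
    refine ⟨_, injective_of_base hd (Finset.univ.image fun l => (l, l)) (fun _ => false) id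
      (fun l => C (-2 : k) * X (Sum.inr l)) (fun l _ => ?_) (fun l hl => by simp at hl) fun l => ?_⟩
    · rw [Finset.sum_image (fun a _ b _ h => (Prod.ext_iff.1 h).1)]
      simp only [id_eq, Finset.sum_add_distrib, Finset.sum_ite_eq', Finset.mem_univ, if_true]
      rw [map_neg, map_ofNat]
      ring
    · set R := Algebra.adjoin k (Set.range (Sum.elim
        (fun q : Low m d => (X (Sum.inl q) : MvPolynomial (Par m d) k))
        fun l : Fin (m + 1) => C (-2 : k) * X (Sum.inr l)))
      have h : C (-2 : k) * X (Sum.inr l) ∈ R := Algebra.subset_adjoin ⟨Sum.inr l, rfl⟩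
      have h' := Subalgebra.smul_mem R h ((-2 : k)⁻¹)
      rw [smul_eq_C_mul, ← mul_assoc, ← map_mul, inv_mul_cancel₀ (neg_ne_zero.2 h2), map_one,
        one_mul] at h'
      exact isAlgebraic_algebraMap (⟨_, h'⟩ : R)

theorem height_singPrime (hd : 2 ≤ d) : (singPrime k m d).height = 1 := by
  classical
  set N := Fintype.card (GenericFibre.Mon (m + 1) d) with hN
  set A := MvPolynomial (GenericFibre.Mon (m + 1) d) k ⧸ singPrime k m d with hA
  obtain ⟨sel, hsel⟩ := exists_injective (k := k) (m := m) hd
  let g : A →ₐ[k] MvPolynomial (Par m d) k :=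
    Ideal.Quotient.liftₐ (singPrime k m d) (aeval (univCoeff k m d)) fun a ha => ha
  have hg : Function.Injective g := by
    rw [injective_iff_map_eq_zero]
    intro a ha
    obtain ⟨f, rfl⟩ := Ideal.Quotient.mk_surjective a
    exact Ideal.Quotient.eq_zero_iff_mem.2 ha
  let h : MvPolynomial (Par m d) k →ₐ[k] A :=
    (Ideal.Quotient.mkₐ k (singPrime k m d)).comp (rename sel)
  have hh : Function.Injective h := by
    refine Function.Injective.of_comp (f := g) ?_
    exact hsel
  have h1 : Algebra.trdeg k A ≤ Algebra.trdeg k (MvPolynomial (Par m d) k) :=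
    trdeg_le_of_injective g hg
  have h2 : Algebra.trdeg k (MvPolynomial (Par m d) k) ≤ Algebra.trdeg k A :=
    trdeg_le_of_injective h hh
  have h3 := le_antisymm h1 h2
  obtain ⟨n, hn, hn'⟩ := VarDim.trdeg_quotient_add_height k
    (MvPolynomial (GenericFibre.Mon (m + 1) d) k) (singPrime k m d)
  rw [show Algebra.trdeg k (MvPolynomial (GenericFibre.Mon (m + 1) d) k ⧸ singPrime k m d) =
    Algebra.trdeg k (MvPolynomial (Par m d) k) from h3, MvPolynomial.trdeg_of_isDomain,
    MvPolynomial.trdeg_of_isDomain, Cardinal.mk_fintype, Cardinal.mk_fintype] at hn'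
  simp only [Cardinal.lift_natCast, ← Nat.cast_add, Nat.cast_inj] at hn'
  rw [card_mon_eq hd] at hn'
  rw [hn, show n = 1 by omega]
  rfl

theorem exists_prime_generator (hd : 2 ≤ d) :
    ∃ Δ : MvPolynomial (GenericFibre.Mon (m + 1) d) k, Irreducible Δ ∧
      singPrime k m d = Ideal.span {Δ} := by
  have hne : singPrime k m d ≠ ⊥ := fun h => by
    have := height_singPrime (k := k) (m := m) hd
    rw [h, Ideal.height_bot] at this
    exact zero_ne_one this
  obtain ⟨Δ, hΔ, hprime⟩ := (singPrime_isPrime (k := k) (m := m) (d := d)).exists_mem_prime_of_ne_bot hne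
  exact ⟨Δ, hprime.irreducible, Ideal.eq_span_singleton_of_height_eq_one (height_singPrime hd) hΔ hprime⟩

/-- A form lies in the zero set of the prime iff it is singular. -/
theorem singular_iff [IsAlgClosed k] (hd : 2 ≤ d) {G : MvPolynomial (Fin (m + 2)) k}
    (hG : G.IsHomogeneous d) :
    (∃ v : Fin (m + 2) → k, v ≠ 0 ∧ GenericFibre.SingAt G v) ↔
      ∀ p ∈ singPrime k m d, aeval (fun q : GenericFibre.Mon (m + 1) d => coeff q.1 G) p = 0 := by
  classical
  constructor
  · -- forms singular in the chart
    have hchart : ∀ (H : MvPolynomial (Fin (m + 2)) k), H.IsHomogeneous d → ∀ v : Fin (m + 2) → k,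
        v 0 ≠ 0 → GenericFibre.SingAt H v → ∀ p ∈ singPrime k m d,
          aeval (fun q : GenericFibre.Mon (m + 1) d => coeff q.1 H) p = 0 := by
      intro H hH v hv0 hv p hp
      set u : Fin (m + 1) → k := fun l => v l.succ / v 0 with hu
      have hvu : (Fin.cons 1 u : Fin (m + 2) → k) = (v 0)⁻¹ • v := by
        funext l
        refine Fin.cases ?_ (fun l => ?_) l
        · simp [inv_mul_cancel₀ hv0]
        · simp [hu, div_eq_inv_mul]
      have hs : GenericFibre.SingAt H (Fin.cons 1 u) := by
        rw [hvu]
        exact ⟨eval_smul_zero hH _ hv.1, fun i => eval_smul_zero hH.pderiv _ (hv.2 i)⟩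
      obtain ⟨t, ht⟩ := exists_param (by omega) hH u hs
      have hspec : (fun q : GenericFibre.Mon (m + 1) d => coeff q.1 H) =
          fun q => aeval (Sum.elim t u) (univCoeff k m d q) := by
        funext q
        show _ = (aeval (Sum.elim t u) : MvPolynomial (Par m d) k →ₐ[k] k).toRingHom _
        rw [univCoeff, ← coeff_map, map_singForm]
        simp [ht]
      rw [hspec, ← comp_aeval_apply, RingHom.mem_ker.1 hp, map_zero]
    rintro ⟨v, hv, hsing⟩ p hp
    by_cases hv0 : v 0 ≠ 0
    · exact hchart G hG v hv0 hsing p hp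
    push Not at hv0
    obtain ⟨i, hi⟩ := Function.ne_iff.1 hv
    have hi0 : i ≠ 0 := fun h => hi (h ▸ hv0)
    -- shear into the chart
    let sub : ∀ {S : Type u} [CommRing S], S → Fin (m + 2) → MvPolynomial (Fin (m + 2)) S :=
      fun {S} _ s => Fin.cons (X 0 - C s * X i) fun l => X l.succ
    let Gs : MvPolynomial (Fin (m + 2)) (Polynomial k) :=
      aeval (sub (Polynomial.X : Polynomial k)) (map Polynomial.C G)
    have hGs : ∀ s : k, map (Polynomial.evalRingHom s) Gs = aeval (sub s) G := by
      intro s
      simp only [Gs, GenericFibre.map_aeval_eq, map_map]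
      rw [show (Polynomial.evalRingHom s).comp Polynomial.C = RingHom.id k from
        RingHom.ext fun a => by simp, map_id]
      congr 1
      refine congrArg aeval (funext fun l => ?_)
      refine Fin.cases ?_ (fun l => ?_) l <;> simp [sub]
    set r : Polynomial k :=
      aeval (fun q : GenericFibre.Mon (m + 1) d => coeff q.1 Gs) p with hr
    have hre : ∀ s : k, r.eval s =
        aeval (fun q : GenericFibre.Mon (m + 1) d => coeff q.1 (aeval (sub s) G)) p := by
      intro s
      show (Polynomial.aeval s : Polynomial k →ₐ[k] k) r = _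
      rw [hr, comp_aeval_apply]
      congr 2
      funext q
      rw [← hGs, coeff_map]
      rfl
    have hzero : r = 0 := by
      refine Polynomial.eq_zero_of_infinite_isRoot r
        ((Set.Finite.infinite_compl (Set.finite_singleton (0 : k))).mono fun s hs => ?_)
      have hs0 : s ≠ 0 := hs
      show r.eval s = 0
      rw [hre]
      set v' : Fin (m + 2) → k := Function.update v 0 (s * v i) with hv'
      have hpt : (fun l => eval v' (sub s l)) = v := by
        funext l
        refine Fin.cases ?_ (fun l => ?_) l
        · simp [sub, hv', hi0, hv0]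
        · simp [sub, hv', Fin.succ_ne_zero]
      refine hchart _ ?_ v' (by simp [hv', hs0]; exact hi) ⟨?_, fun j => ?_⟩ p hp
      · have h := hG.aeval (g := sub s) (n := 1) fun l => by
          refine Fin.cases ?_ (fun l => ?_) l
          · simpa [sub] using (isHomogeneous_X k (0 : Fin (m + 2))).sub ((isHomogeneous_X k i).C_mul s)
          · simpa [sub] using isHomogeneous_X k l.succ
        rw [one_mul] at h
        exact h
      · rw [eval_aeval', hpt, hsing.1]
      · rw [GenericFibre.pderiv_aeval, map_sum]
        refine Finset.sum_eq_zero fun l _ => ?_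
        rw [map_mul, eval_aeval', hpt, hsing.2 l, zero_mul]
    have h0 := hre 0
    rw [hzero, Polynomial.eval_zero] at h0
    have hid : aeval (sub (0 : k)) G = G := by
      rw [show sub (0 : k) = X from funext fun l => Fin.cases (by simp [sub]) (fun l => by simp [sub]) l,
        aeval_X_left_apply]
    rw [hid] at h0
    exact h0.symm
  · intro hzero
    let K := MvPolynomial (Par m d) k
    let A := MvPolynomial (GenericFibre.Mon (m + 1) d) k ⧸ singPrime k m d
    let g : A →ₐ[k] K :=
      Ideal.Quotient.liftₐ (singPrime k m d) (aeval (univCoeff k m d)) fun a ha => ha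
    have hg : Function.Injective g := by
      rw [injective_iff_map_eq_zero]
      intro a ha
      obtain ⟨f, rfl⟩ := Ideal.Quotient.mk_surjective a
      exact Ideal.Quotient.eq_zero_iff_mem.2 ha
    let Ω := FractionRing K
    let j : A →ₐ[k] Ω := (IsScalarTower.toAlgHom k K Ω).comp g
    have hj : Function.Injective j := (IsFractionRing.injective K Ω).comp hg
    let φ : A →ₐ[k] k := Ideal.Quotient.liftₐ (singPrime k m d)
      (aeval fun q : GenericFibre.Mon (m + 1) d => coeff q.1 G) hzero
    let F : MvPolynomial (Fin (m + 2)) A :=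
      ∑ q : GenericFibre.Mon (m + 1) d, monomial q.1 (Ideal.Quotient.mk _ (X q))
    have hF : F.IsHomogeneous d := IsHomogeneous.sum _ _ _ fun q _ => isHomogeneous_monomial _ q.2
    let w : Fin (m + 2) → Ω := Fin.cons 1 fun l => algebraMap K Ω (X (Sum.inr l))
    have hjF : map (j : A →+* Ω) F = singForm (fun r => algebraMap K Ω (X (Sum.inl r)))
        fun l => algebraMap K Ω (X (Sum.inr l)) := by
      rw [← map_singForm (algebraMap K Ω), GenericFibre.eq_sum_monomial
        (isHomogeneous_singForm (A := K) (fun r => X (Sum.inl r)) fun l => X (Sum.inr l))]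
      simp only [F, map_sum, map_monomial]
      refine Finset.sum_congr rfl fun q _ => congrArg (monomial q.1) ?_
      show algebraMap K Ω (g (Ideal.Quotient.mk _ (X q))) = algebraMap K Ω (univCoeff k m d q)
      exact congrArg _ (aeval_X (univCoeff k m d) q)
    have hs := singAt_singForm (fun r => algebraMap K Ω (X (Sum.inl r) : K))
      fun l => algebraMap K Ω (X (Sum.inr l) : K)
    rw [← hjF] at hs
    obtain ⟨v, hv0, hv⟩ := exists_zero_specialize j hj
      (fun i : Option (Fin (m + 2)) => i.elim F fun l => pderiv l F)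
      (fun i => i.elim d fun _ => d - 1)
      (fun i => by cases i with
        | none => exact hF
        | some l => exact hF.pderiv)
      w (fun h => by simpa [w] using congrFun h 0)
      (fun i => by cases i with
        | none => exact hs.1
        | some l =>
          show eval w (map (j : A →+* Ω) (pderiv l F)) = 0
          rw [← pderiv_map]
          exact hs.2 l) φ
    have hφF : map (φ : A →+* k) F = G := by
      conv_rhs => rw [GenericFibre.eq_sum_monomial hG]
      simp only [F, map_sum, map_monomial]
      exact Finset.sum_congr rfl fun q _ => congrArg (monomial q.1) (aeval_X _ q)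
    refine ⟨v, hv0, ?_, fun l => ?_⟩
    · rw [← hφF]; exact hv none
    · rw [← hφF, pderiv_map]; exact hv (some l)

end Groth.Agent.GenPt.Disc
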